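import Cfsg.Agent.Lib.Spor.SchurCert.PermBridge
import Cfsg.Agent.Lib.Spor.CoThreePerm.Data

/-!
The certificate at the prime 3: a polycyclic sequence of a Sylow subgroup and conjugations killing the tails.
-/

set_option autoImplicit false
set_option maxRecDepth 100000
set_option maxHeartbeats 0

namespace CfsgLib.Spor.CoThreeMult.P3

open CfsgLib.Spor.SchurCert

/-- The Sylow elements. -/
def sw : List (List ℕ) := [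
    [338, 518, 860, 1113, 819, 9],
    [1044, 877, 716, 698, 803, 1076],
    [528, 518, 716, 1117, 943, 9],
    [215, 874, 586, 571, 1089, 1074],
    [397, 749, 997, 686, 1078, 1075],
    [326, 612, 719, 698, 808, 941],
    [913, 391, 465, 1099, 683, 1073]]

/-- The conjugating elements. -/
def gw : List (List ℕ) := [
    [784, 1171, 478, 568, 567, 1076],
    [772, 730, 245, 957, 952, 1075],
    [137, 880, 469, 842, 942, 941],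
    [316, 492, 362, 845, 804, 1073],
    [218, 1017, 609, 1107, 830, 1073]]

/-- The certificate. -/
def cert : SchurCert.Cert where
  p := 3
  m := 7
  N := 3
  rules := [
    ([0, 0, 0], []),
    ([1, 1, 1], []),
    ([2, 2, 2], [6]),
    ([3, 3, 3], []),
    ([4, 4, 4], []),
    ([5, 5, 5], []),
    ([6, 6, 6], []),
    ([1, 0], [0, 1, 5, 5, 6]),
    ([2, 0], [0, 2, 6, 6]),
    ([2, 1], [1, 2, 4, 4, 5, 5, 6]),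
    ([3, 0], [0, 3, 4, 4, 6, 6]),
    ([3, 1], [1, 3, 5, 5]),
    ([3, 2], [2, 3, 4, 5, 5, 6]),
    ([4, 0], [0, 4, 6, 6]),
    ([4, 1], [1, 4, 6, 6]),
    ([4, 2], [2, 4]),
    ([4, 3], [3, 4]),
    ([5, 0], [0, 5, 6, 6]),
    ([5, 1], [1, 5, 6]),
    ([5, 2], [2, 5, 6, 6]),
    ([5, 3], [3, 5]),
    ([5, 4], [4, 5]),
    ([6, 0], [0, 6]),
    ([6, 1], [1, 6]),
    ([6, 2], [2, 6]),
    ([6, 3], [3, 6]),
    ([6, 4], [4, 6]),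
    ([6, 5], [5, 6])]
  maps := [
    [([1, 4, 5, 5, 6], [1, 1, 4, 4, 5])],
    [([0, 1, 1, 2], [3, 3, 6]), ([3], [0, 0, 1, 2, 2, 6]), ([4], [3, 3, 4, 5, 5]), ([5], [0, 0, 1, 2, 2, 3, 3, 6]), ([6], [0, 1, 1, 2, 3, 4, 5, 6])],
    [([0], [0, 0, 1, 1, 2, 3, 4, 4, 5, 6, 6]), ([1], [1, 1, 4, 5, 5, 6, 6]), ([2], [0, 2, 2, 3]), ([3], [0, 0, 1, 2, 2, 4, 4, 6, 6]), ([4], [5]), ([5], [4]), ([6], [6])],
    [([0], [0, 4, 5, 6]), ([1], [0, 0, 2, 2, 3, 3, 4, 5, 5]), ([2], [0, 2, 2, 4, 4, 5, 5, 6]), ([3], [0, 1, 1, 2, 4, 5]), ([4], [5, 5, 6]), ([5], [4, 4]), ([6], [6, 6])],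
    [([0, 5, 6, 6], [0, 0, 5, 5])]]
  overlaps := [
    ([1, 1, 1, 0], [(1, 0)], [(7, 2), (7, 1), (7, 0), (23, 4), (18, 3), (18, 2), (27, 4), (6, 5), (5, 3), (23, 4), (18, 3), (1, 1), (27, 3), (27, 2), (27, 4), (27, 3), (5, 1), (6, 1)]),
    ([1, 0, 0, 0], [(0, 1)], [(7, 0), (22, 4), (17, 3), (17, 2), (7, 1), (27, 5), (5, 3), (6, 3), (6, 4), (17, 3), (7, 2), (0, 0), (27, 3), (5, 1), (6, 1)]),
    ([2, 2, 2, 2], [(2, 0), (24, 0)], [(2, 1)]),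
    ([2, 2, 2, 0], [(2, 0), (22, 0)], [(8, 2), (8, 1), (8, 0), (24, 3), (24, 2), (6, 3), (24, 3), (2, 1), (6, 1)]),
    ([2, 0, 0, 0], [(0, 1)], [(8, 0), (22, 3), (22, 2), (8, 1), (6, 3), (22, 3), (8, 2), (0, 0), (6, 1)]),
    ([2, 2, 2, 1], [(2, 0), (23, 0)], [(9, 2), (9, 1), (9, 0), (24, 6), (19, 5), (19, 4), (15, 3), (15, 2), (27, 7), (27, 6), (6, 7), (26, 8), (26, 7), (21, 6), (21, 5), (4, 3), (26, 6), (26, 5), (21, 4), (21, 3), (27, 7), (27, 6), (5, 4), (27, 5), (27, 4), (6, 5), (19, 4), (15, 3), (2, 1), (26, 1), (27, 2), (6, 3), (21, 2), (21, 3), (4, 1), (5, 1)]),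
    ([2, 1, 1, 1], [(1, 1)], [(9, 0), (23, 6), (18, 5), (18, 4), (14, 3), (14, 2), (9, 1), (26, 7), (21, 6), (21, 5), (4, 3), (6, 5), (21, 4), (21, 3), (27, 7), (27, 6), (5, 4), (6, 4), (23, 6), (23, 5), (18, 4), (14, 3), (9, 2), (1, 0), (26, 5), (21, 4), (21, 3), (4, 1), (6, 3), (5, 1), (6, 1)]),
    ([2, 1, 0], [(9, 0), (22, 6), (17, 5), (17, 4), (13, 3), (13, 2), (8, 1), (7, 0), (24, 4), (19, 3), (19, 2), (27, 5), (27, 4), (6, 5), (6, 5), (26, 5), (21, 4), (21, 3), (6, 6), (21, 5), (21, 4), (27, 8), (27, 7), (5, 5), (6, 5), (27, 5), (6, 6)], [(7, 1), (8, 0), (23, 3), (23, 2), (9, 1), (6, 7), (5, 5)]),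
    ([3, 3, 3, 0], [(3, 0)], [(10, 2), (10, 1), (10, 0), (25, 5), (25, 4), (16, 3), (16, 2), (26, 6), (26, 5), (4, 3), (26, 4), (26, 3), (6, 4), (25, 4), (16, 3), (3, 1), (26, 2), (26, 3), (4, 1), (6, 1)]),
    ([3, 1, 0], [(11, 0), (17, 3), (17, 2), (10, 1), (7, 0), (25, 4), (20, 3), (20, 2), (26, 5), (21, 4), (21, 3), (26, 6), (21, 5), (21, 4), (6, 7), (5, 5), (27, 6), (27, 5), (6, 6)], [(7, 1), (10, 0), (23, 5), (23, 4), (14, 3), (14, 2), (11, 1), (21, 4), (21, 3), (26, 7), (26, 6), (21, 5), (21, 4), (6, 7), (6, 7), (5, 5)]),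
    ([3, 2, 2, 2], [(2, 1)], [(12, 0), (24, 5), (19, 4), (19, 3), (15, 2), (12, 1), (26, 6), (21, 5), (21, 4), (27, 7), (5, 5), (6, 5), (6, 6), (19, 5), (15, 4), (15, 3), (12, 2), (2, 0), (25, 0), (26, 1), (27, 2), (27, 3), (26, 5), (26, 4), (21, 3), (21, 2), (26, 6), (26, 5), (21, 4), (21, 3), (4, 1), (27, 4), (27, 3), (5, 1), (6, 1)]),
    ([3, 2, 0], [(12, 0), (22, 5), (17, 4), (17, 3), (13, 2), (10, 1), (8, 0), (25, 3), (25, 2), (26, 4), (26, 3), (26, 5), (26, 4), (6, 5), (26, 5), (4, 3), (6, 3), (27, 5), (27, 4), (6, 5)], [(8, 1), (10, 0), (24, 5), (24, 4), (15, 3), (15, 2), (12, 1), (26, 6), (21, 5), (21, 4), (26, 7), (21, 6), (21, 5), (4, 3), (6, 5)]),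
    ([3, 2, 1], [(12, 0), (23, 5), (18, 4), (18, 3), (14, 2), (11, 1), (9, 0), (25, 6), (20, 5), (20, 4), (16, 3), (16, 2), (27, 7), (5, 5), (27, 5), (26, 6), (21, 5), (4, 3), (6, 4), (27, 5), (5, 3), (6, 3)], [(9, 1), (11, 0), (19, 3), (19, 2), (12, 1), (27, 6), (5, 4), (6, 4), (26, 6), (26, 5), (21, 4), (26, 7), (26, 6), (21, 5), (4, 3), (27, 5), (27, 4), (27, 6), (27, 5), (5, 3), (6, 3)]),
    ([4, 1, 0], [(14, 0), (22, 3), (22, 2), (13, 1), (7, 0), (26, 4), (21, 3), (21, 2), (6, 5)], [(7, 1), (13, 0), (23, 3), (23, 2), (14, 1), (6, 3), (27, 3), (27, 4)])]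
  fuses := [
    ⟨0, [0, 0, 0], [], [(23, 4), (18, 3), (18, 2), (14, 1), (27, 4), (27, 3), (6, 4), (26, 6), (26, 5), (21, 4), (21, 3), (27, 7), (27, 6), (5, 4), (27, 5), (27, 4), (6, 5), (18, 4), (14, 3), (14, 2), (1, 0), (26, 2), (26, 1), (6, 2), (27, 2), (26, 4), (26, 3), (21, 2), (4, 0), (27, 2), (27, 1), (27, 3), (27, 2), (5, 0), (6, 0)], [], [(18, 4), (14, 3), (14, 2), (1, 0), (26, 2), (26, 1), (6, 2), (27, 2), (23, 4), (23, 3), (18, 2), (14, 1), (14, 0), (26, 3), (26, 2), (6, 3), (27, 3), (6, 4), (26, 4), (21, 3), (4, 1), (26, 2), (21, 1), (27, 3), (23, 4), (18, 3), (18, 2), (14, 1), (27, 4), (27, 3), (6, 4), (23, 6), (23, 5), (18, 4), (18, 3), (14, 2), (1, 0), (27, 2), (27, 1), (6, 2), (6, 3), (21, 2), (21, 1), (21, 3), (21, 2), (4, 0), (5, 0)], []⟩,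
    ⟨1, [0, 0, 0], [], [(8, 3), (7, 2), (7, 1), (23, 5), (18, 4), (18, 3), (27, 5), (6, 6), (5, 4), (24, 5), (19, 4), (6, 6), (23, 7), (23, 6), (18, 5), (9, 4), (1, 2), (27, 7), (5, 5), (6, 5), (23, 5), (14, 4), (14, 3), (9, 2), (26, 8), (21, 7), (21, 6), (4, 4), (6, 6), (21, 5), (21, 4), (6, 7), (19, 6), (19, 5), (15, 4), (27, 8), (27, 7), (6, 8), (22, 8), (17, 7), (17, 6), (13, 5), (8, 4), (8, 3), (7, 2), (0, 0), (24, 3), (19, 2), (19, 1), (27, 4), (27, 3), (6, 4), (6, 4), (24, 4), (19, 3), (19, 2), (27, 5), (27, 4), (6, 5), (6, 5), (26, 5), (21, 4), (21, 3), (6, 6), (5, 4), (27, 5), (27, 4), (6, 5), (23, 6), (23, 5), (18, 4), (14, 3), (9, 2), (9, 1), (24, 7), (19, 6), (19, 5), (15, 4), (15, 3), (27, 8), (27, 7), (6, 8), (26, 9), (26, 8), (21, 7), (21, 6), (4, 4), (26, 7), (26, 6), (21, 5), (21, 4), (27, 8), (27,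 7), (5, 5), (27, 6), (27, 5), (6, 6), (21, 5), (27, 8), (27, 7), (6, 8), (23, 9), (23, 8), (18, 7), (18, 6), (14, 5), (14, 4), (9, 3), (9, 2), (1, 0), (24, 5), (19, 4), (19, 3), (15, 2), (15, 1), (27, 6), (27, 5), (6, 6), (26, 7), (26, 6), (21, 5), (21, 4), (4, 2), (26, 5), (26, 4), (21, 3), (21, 2), (27, 6), (27, 5), (5, 3), (27, 4), (27, 3), (6, 4), (21, 3), (26, 6), (26, 5), (21, 4), (4, 2), (6, 3), (27, 3), (27, 5), (27, 4), (5, 2), (6, 2), (24, 3), (24, 2), (2, 0), (6, 0)], [], [(25, 2), (3, 0), (25, 0), (25, 2), (25, 1), (25, 3), (25, 2), (3, 0), (6, 0)], []⟩,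
    ⟨1, [1, 0], [0, 1], [(10, 0), (23, 5), (23, 4), (14, 3), (14, 2), (11, 1), (21, 4), (21, 3), (26, 7), (26, 6), (21, 5), (21, 4), (6, 7), (6, 7), (18, 6), (18, 5), (14, 4), (14, 3), (11, 2), (21, 5), (21, 4), (26, 8), (26, 7), (21, 6), (21, 5), (6, 8), (27, 8), (5, 6), (27, 7), (27, 6), (6, 7), (19, 6), (15, 5), (15, 4), (12, 3), (26, 8), (21, 7), (21, 6), (26, 9), (21, 8), (21, 7), (4, 5), (27, 7), (5, 5), (6, 5)], [], [(25, 5), (25, 6)], [(22, 2), (10, 1), (10, 0), (25, 5), (25, 4), (16, 3), (16, 2), (26, 6), (26, 5), (4, 3), (26, 4), (26, 3), (6, 4), (22, 5), (22, 4), (13, 3), (10, 2), (10, 1), (25, 6), (25, 5), (16, 4), (16, 3), (26, 7), (26, 6), (4, 4), (26, 5), (26, 4), (6, 5), (26, 5), (6, 6), (23, 7), (23, 6), (14, 5), (14, 4), (11, 3), (11, 2), (20, 5), (20, 4), (5, 5), (21, 5), (26, 8), (26, 7), (21, 6),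 (6, 8), (6, 8), (19, 7), (15, 6), (15, 5), (12, 4), (12, 3), (25, 8), (20, 7), (20, 6), (16, 5), (26, 9), (21, 8), (21, 7), (27, 10), (5, 8), (27, 8), (26, 10), (26, 9), (21, 8), (4, 6), (26, 8), (26, 7), (21, 6), (27, 9), (27, 8), (6, 9), (24, 9), (19, 8), (19, 7), (15, 6), (12, 5), (12, 4), (25, 9), (20, 8), (20, 7), (16, 6), (26, 10), (21, 9), (21, 8), (27, 11), (5, 9), (27, 9), (26, 11), (26, 10), (21, 9), (4, 7), (27, 9), (27, 8), (6, 9), (27, 9), (5, 7), (6, 7)]⟩,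
    ⟨1, [2, 0], [0, 2], [(13, 0), (23, 3), (23, 2), (14, 1), (6, 3), (23, 3), (14, 2), (6, 4), (15, 3)], [], [(20, 4), (20, 3), (16, 2), (3, 0), (20, 2), (20, 1), (16, 0)], [(25, 2), (3, 0), (25, 0), (26, 1), (27, 2), (27, 3)]⟩,
    ⟨1, [4, 0], [0, 4], [(22, 0), (23, 1), (23, 2), (24, 3)], [], [(25, 7), (20, 6), (16, 5), (25, 8), (20, 7), (16, 6), (3, 4)], [(22, 2), (10, 1), (10, 0), (25, 5), (25, 4), (16, 3), (16, 2), (26, 6), (26, 5), (4, 3), (26, 4), (26, 3), (6, 4), (23, 5), (23, 4), (14, 3), (11, 2), (11, 1), (20, 4), (20, 3), (5, 4), (21, 4), (6, 6), (23, 6), (18, 5), (14, 4), (11, 3), (11, 2), (20, 5), (20, 4), (5, 5), (21, 5), (27, 8), (27, 7), (6, 8), (24, 8), (19, 7), (19, 6), (15, 5), (12, 4), (12, 3), (25, 8), (20, 7), (20, 6), (16, 5), (26, 9), (21, 8), (21, 7), (27, 10), (5, 8), (27, 8), (26, 10), (26,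 9), (21, 8), (4, 6), (27, 8), (27, 7), (6, 8), (27, 8), (5, 6), (6, 6), (25, 6), (3, 4), (26, 4), (27, 5)]⟩,
    ⟨1, [2, 2, 2], [], [(4, 0)], [], [(20, 4), (20, 3), (16, 2), (3, 0), (20, 2), (20, 1), (16, 0), (21, 3), (21, 2), (5, 3), (20, 3), (16, 2), (16, 1), (20, 4), (16, 3), (16, 2), (3, 0), (21, 2), (4, 0), (5, 0)], []⟩,
    ⟨2, [0, 0, 0], [], [(0, 0)], [], [(22, 10), (22, 9), (17, 8), (13, 7), (13, 6), (10, 5), (8, 4), (7, 3), (7, 2), (0, 0), (23, 3), (18, 2), (18, 1), (27, 3), (6, 4), (5, 2), (24, 3), (19, 2), (6, 4), (25, 5), (25, 4), (20, 3), (26, 6), (26, 5), (21, 4), (26, 7), (26, 6), (21, 5), (6, 7), (26, 7), (21, 6), (4, 4), (6, 5), (21, 4), (27, 7), (27, 6), (6, 7), (6, 7), (17, 6), (17, 5), (13, 4), (10, 3), (8, 2), (7, 1), (7, 0), (23, 4), (18, 3), (18, 2), (27, 4), (6, 5), (5, 3), (24, 4), (19, 3),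 (6, 5), (25, 6), (25, 5), (20, 4), (26, 7), (26, 6), (21, 5), (26, 8), (26, 7), (21, 6), (6, 8), (26, 8), (21, 7), (4, 5), (6, 6), (27, 8), (27, 7), (5, 5), (6, 5), (23, 5), (11, 4), (9, 3), (1, 1), (25, 6), (20, 5), (20, 4), (16, 3), (16, 2), (27, 7), (5, 5), (27, 5), (23, 7), (23, 6), (18, 5), (14, 4), (14, 3), (11, 2), (9, 1), (25, 7), (20, 6), (20, 5), (16, 4), (16, 3), (27, 8), (5, 6), (27, 6), (26, 7), (21, 6), (4, 4), (6, 5), (21, 4), (27, 7), (27, 6), (6, 7), (24, 8), (24, 7), (19, 6), (19, 5), (15, 4), (12, 3), (26, 8), (21, 7), (21, 6), (27, 9), (5, 7), (6, 7), (6, 8), (25, 8), (20, 7), (16, 6), (16, 5), (26, 9), (21, 8), (4, 6), (26, 7), (21, 6), (27, 8), (6, 9), (17, 8), (17, 7), (13, 6), (10, 5), (10, 4), (8, 3), (8, 2), (7, 1), (24, 5), (19, 4), (19, 3), (27, 6), (27, 5), (6, 6), (6, 6), (24, 6), (19,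 5), (19, 4), (27, 7), (27, 6), (6, 7), (6, 7), (25, 7), (20, 6), (20, 5), (26, 8), (21, 7), (21, 6), (26, 9), (21, 8), (21, 7), (6, 10), (20, 9), (20, 8), (16, 7), (16, 6), (21, 10), (21, 9), (4, 7), (21, 8), (21, 7), (26, 11), (26, 10), (21, 9), (21, 8), (6, 11), (27, 11), (5, 9), (6, 9), (22, 11), (22, 10), (17, 9), (13, 8), (13, 7), (10, 6), (10, 5), (8, 4), (8, 3), (7, 2), (0, 0), (24, 3), (19, 2), (19, 1), (27, 4), (27, 3), (6, 4), (6, 4), (24, 4), (19, 3), (19, 2), (27, 5), (27, 4), (6, 5), (6, 5), (25, 5), (20, 4), (20, 3), (26, 6), (21, 5), (21, 4), (26, 7), (21, 6), (21, 5), (6, 8), (20, 7), (20, 6), (16, 5), (16, 4), (21, 8), (21, 7), (4, 5), (21, 6), (21, 5), (26, 9), (26, 8), (21, 7), (21, 6), (6, 9), (26, 9), (21, 8), (21, 7), (4, 5), (6, 7), (5, 5), (6, 5), (23, 5), (11, 4), (11, 3), (9, 2), (9, 1), (24,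 7), (19, 6), (19, 5), (15, 4), (15, 3), (27, 8), (27, 7), (6, 8), (26, 9), (26, 8), (21, 7), (21, 6), (4, 4), (26, 7), (26, 6), (21, 5), (21, 4), (27, 8), (27, 7), (5, 5), (27, 6), (27, 5), (6, 6), (20, 5), (16, 4), (5, 6), (16, 5), (23, 9), (18, 8), (18, 7), (14, 6), (11, 5), (11, 4), (9, 3), (9, 2), (1, 0), (24, 5), (19, 4), (19, 3), (15, 2), (15, 1), (27, 6), (27, 5), (6, 6), (26, 7), (26, 6), (21, 5), (21, 4), (4, 2), (26, 5), (26, 4), (21, 3), (21, 2), (27, 6), (27, 5), (5, 3), (27, 4), (27, 3), (6, 4), (20, 3), (16, 2), (5, 4), (16, 3), (21, 6), (21, 5), (27, 9), (27, 8), (5, 6), (6, 6), (24, 8), (24, 7), (19, 6), (15, 5), (15, 4), (12, 3), (12, 2), (2, 0), (25, 0), (26, 1), (27, 2), (27, 3), (25, 5), (25, 4), (20, 3), (20, 2), (16, 1), (26, 6), (26, 5), (21, 4), (21, 3), (27, 7), (27, 6), (5, 4), (27, 5), (27,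 4), (6, 5), (21, 4), (4, 2), (21, 2), (6, 5), (25, 5), (20, 4), (20, 3), (16, 2), (3, 0), (26, 3), (21, 2), (21, 1), (26, 4), (21, 3), (21, 2), (4, 0), (27, 2), (5, 0), (6, 0)], []⟩,
    ⟨2, [1, 0], [0, 1, 5, 5, 6], [(7, 0)], [], [(22, 6), (22, 5), (17, 4), (17, 3), (13, 2), (7, 1), (7, 0), (23, 4), (18, 3), (18, 2), (27, 4), (6, 5), (5, 3), (26, 4), (21, 3), (6, 5), (27, 7), (27, 6), (5, 4), (6, 4), (6, 4), (13, 3), (7, 2), (7, 1), (23, 5), (18, 4), (18, 3), (27, 5), (6, 6), (5, 4), (26, 5), (21, 4), (6, 6), (18, 5), (14, 4), (1, 2), (27, 4), (27, 3), (6, 4), (18, 3), (14, 2), (27, 5), (27, 4), (6, 5), (19, 4), (15, 3), (25, 7), (25, 6), (20, 5), (16, 4), (26, 8), (26, 7), (21, 6), (26, 9), (26, 8), (21, 7), (4, 5), (27, 7), (27, 6), (6, 7)], [(23, 10), (23, 9), (18, 8), (14, 7), (14, 6), (11, 5), (9, 4), (1, 2), (25,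 7), (20, 6), (20, 5), (16, 4), (16, 3), (27, 8), (5, 6), (27, 6), (26, 7), (21, 6), (4, 4), (6, 5), (21, 4), (27, 7), (27, 6), (6, 7), (23, 8), (23, 7), (18, 6), (18, 5), (14, 4), (11, 3), (9, 2), (25, 8), (20, 7), (20, 6), (16, 5), (16, 4), (27, 9), (5, 7), (27, 7), (26, 8), (21, 7), (4, 5), (6, 6), (27, 7), (5, 5), (6, 5), (26, 5), (27, 6), (27, 7), (6, 8), (21, 7), (21, 6), (21, 8), (21, 7), (4, 5)]⟩,
    ⟨2, [2, 0], [0, 2, 6, 6], [(8, 0)], [], [(10, 3), (8, 2), (8, 1), (24, 4), (24, 3), (6, 4), (25, 4), (26, 5), (26, 6), (6, 7), (13, 6), (13, 5), (10, 4), (8, 3), (8, 2), (0, 0), (24, 2), (24, 1), (6, 2), (25, 2), (26, 3), (26, 4), (6, 5), (4, 3), (26, 4), (26, 3), (6, 4), (23, 4), (14, 3), (11, 2), (9, 1), (9, 0), (24, 6), (19, 5), (19, 4), (15, 3), (15, 2), (27, 7), (27, 6), (6, 7), (26, 8), (26, 7), (21, 6), (21,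 5), (4, 3), (26, 6), (26, 5), (21, 4), (21, 3), (27, 7), (27, 6), (5, 4), (27, 5), (27, 4), (6, 5), (20, 4), (16, 3), (5, 5), (6, 6), (14, 5), (14, 4), (11, 3), (9, 2), (9, 1), (24, 7), (19, 6), (19, 5), (15, 4), (15, 3), (27, 8), (27, 7), (6, 8), (26, 9), (26, 8), (21, 7), (21, 6), (4, 4), (26, 7), (26, 6), (21, 5), (21, 4), (27, 8), (27, 7), (5, 5), (27, 6), (27, 5), (6, 6), (20, 5), (16, 4), (5, 6), (26, 8), (26, 7), (4, 5), (6, 5), (24, 5), (12, 4), (2, 2), (25, 2), (26, 3), (27, 4), (27, 5), (6, 6), (20, 5), (20, 4), (16, 3), (21, 6), (21, 5), (21, 7), (21, 6), (4, 4), (5, 4)], [(22, 10), (22, 9), (17, 8), (13, 7), (13, 6), (10, 5), (8, 4), (7, 3), (7, 2), (0, 0), (23, 3), (18, 2), (18, 1), (27, 3), (6, 4), (5, 2), (24, 3), (19, 2), (6, 4), (25, 5), (25, 4), (20, 3), (26, 6), (26, 5), (21, 4), (26, 7), (26, 6),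 (21, 5), (6, 7), (26, 7), (21, 6), (4, 4), (6, 5), (21, 4), (27, 7), (27, 6), (6, 7), (6, 7), (19, 6), (19, 5), (15, 4), (12, 3), (26, 8), (21, 7), (21, 6), (27, 9), (5, 7), (6, 7), (24, 9), (24, 8), (19, 7), (15, 6), (15, 5), (12, 4), (2, 2), (25, 2), (26, 3), (27, 4), (27, 5), (26, 7), (26, 6), (21, 5), (21, 4), (26, 8), (26, 7), (21, 6), (21, 5), (4, 3), (27, 6), (27, 5), (5, 3), (6, 3), (6, 3)]⟩,
    ⟨2, [3, 0], [0, 3, 4, 4, 6, 6], [(10, 0)], [], [(22, 8), (22, 7), (13, 6), (13, 5), (8, 4), (8, 3), (7, 2), (0, 0), (24, 3), (19, 2), (19, 1), (27, 4), (27, 3), (6, 4), (6, 4), (24, 4), (19, 3), (19, 2), (27, 5), (27, 4), (6, 5), (6, 5), (26, 5), (21, 4), (21, 3), (6, 6), (21, 5), (21, 4), (6, 7), (22, 7), (17, 6), (17, 5), (13, 4), (13, 3), (8, 2), (8, 1), (7, 0), (24, 4), (19, 3), (19, 2), (27, 5), (27, 4), (6, 5),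 (6, 5), (24, 5), (19, 4), (19, 3), (27, 6), (27, 5), (6, 6), (6, 6), (26, 6), (21, 5), (21, 4), (6, 7), (21, 6), (21, 5), (27, 9), (27, 8), (5, 6), (6, 6), (27, 6), (6, 7), (23, 7), (18, 6), (14, 5), (14, 4), (9, 3), (9, 2), (24, 8), (19, 7), (19, 6), (15, 5), (15, 4), (27, 9), (27, 8), (6, 9), (26, 10), (26, 9), (21, 8), (21, 7), (4, 5), (26, 8), (26, 7), (21, 6), (21, 5), (27, 9), (27, 8), (5, 6), (27, 7), (27, 6), (6, 7), (21, 6), (26, 9), (26, 8), (21, 7), (4, 5), (6, 6), (27, 6), (6, 7), (18, 6), (18, 5), (9, 4), (9, 3), (1, 1), (24, 6), (19, 5), (19, 4), (15, 3), (15, 2), (27, 7), (27, 6), (6, 7), (26, 8), (26, 7), (21, 6), (21, 5), (4, 3), (26, 6), (26, 5), (21, 4), (21, 3), (27, 7), (27, 6), (5, 4), (27, 5), (27, 4), (6, 5), (27, 6), (5, 4), (24, 5), (24, 4), (15, 3), (2, 1), (26, 1), (6, 2), (16, 1), (4, 2)],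 [(22, 10), (22, 9), (17, 8), (13, 7), (13, 6), (10, 5), (8, 4), (7, 3), (7, 2), (0, 0), (23, 3), (18, 2), (18, 1), (27, 3), (6, 4), (5, 2), (24, 3), (19, 2), (6, 4), (25, 5), (25, 4), (20, 3), (26, 6), (26, 5), (21, 4), (26, 7), (26, 6), (21, 5), (6, 7), (26, 7), (21, 6), (4, 4), (6, 5), (21, 4), (27, 7), (27, 6), (6, 7), (6, 7), (17, 6), (17, 5), (13, 4), (10, 3), (8, 2), (7, 1), (7, 0), (23, 4), (18, 3), (18, 2), (27, 4), (6, 5), (5, 3), (24, 4), (19, 3), (6, 5), (25, 6), (25, 5), (20, 4), (26, 7), (26, 6), (21, 5), (26, 8), (26, 7), (21, 6), (6, 8), (26, 8), (21, 7), (4, 5), (6, 6), (27, 8), (27, 7), (5, 5), (6, 5), (23, 5), (11, 4), (9, 3), (1, 1), (25, 6), (20, 5), (20, 4), (16, 3), (16, 2), (27, 7), (5, 5), (27, 5), (24, 7), (24, 6), (19, 5), (15, 4), (15, 3), (12, 2), (26, 7), (21, 6), (21, 5), (26, 8), (21,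 7), (21, 6), (4, 4), (27, 6), (5, 4), (6, 4), (24, 5), (24, 4), (12, 3), (2, 1), (25, 1), (26, 2), (27, 3), (27, 4), (6, 5), (26, 5), (21, 4), (21, 3), (26, 6), (21, 5), (21, 4), (4, 2), (6, 4), (5, 2)]⟩,
    ⟨2, [4, 0], [0, 4, 6, 6], [(13, 0)], [], [(17, 0), (22, 3), (22, 2), (17, 1), (6, 3), (23, 3), (18, 2), (23, 5), (23, 4), (18, 3), (6, 5), (19, 4), (25, 7), (25, 6), (20, 5), (26, 8), (26, 7), (21, 6), (26, 9), (26, 8), (21, 7), (27, 10), (27, 9), (6, 10)], [(27, 10), (27, 9), (6, 10)]⟩,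
    ⟨2, [2, 1], [1, 2, 4, 4, 5, 5, 6], [(9, 0)], [], [(11, 3), (9, 2), (9, 1), (24, 7), (19, 6), (19, 5), (15, 4), (15, 3), (27, 8), (27, 7), (6, 8), (26, 9), (26, 8), (21, 7), (21, 6), (4, 4), (26, 7), (26, 6), (21, 5), (21, 4), (27, 8), (27, 7), (5, 5), (27, 6), (27, 5), (6, 6), (20, 5), (16, 4), (5, 6), (14, 5), (11, 4), (9, 3), (9, 2), (24, 8), (19, 7), (19, 6), (15, 5), (15, 4), (27, 9), (27, 8), (6, 9), (26, 10), (26, 9), (21, 8), (21, 7), (4, 5), (26, 8), (26, 7), (21, 6), (21, 5), (27, 9), (27, 8), (5, 6), (27, 7), (27, 6), (6, 7), (20, 6), (16, 5), (5, 7), (26, 9), (26, 8), (4, 6), (27, 7), (27, 6), (27, 8), (27, 7), (6, 8)], [(22, 6), (22, 5), (17, 4), (17, 3), (13, 2), (7, 1), (7, 0), (23, 4), (18, 3), (18, 2), (27, 4), (6, 5), (5, 3), (26, 4), (21, 3), (6, 5), (27, 7), (27, 6), (5, 4), (6, 4), (6, 4), (15,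 3), (15, 4), (16, 5), (21, 8), (21, 7), (21, 9), (21, 8), (4, 6)]⟩,
    ⟨3, [2, 0], [0, 2, 6, 6], [(8, 0)], [], [(22, 7), (17, 6), (17, 5), (13, 4), (13, 3), (8, 2), (8, 1), (24, 4), (24, 3), (6, 4), (26, 4), (6, 5), (27, 7), (27, 6), (6, 7), (27, 7), (6, 8), (26, 8), (21, 7), (21, 6), (4, 4), (27, 6), (5, 4)], [(22, 3), (17, 2), (13, 1), (27, 4), (27, 3), (6, 4), (24, 5), (24, 4), (19, 3), (15, 2), (6, 5), (24, 5), (19, 4), (15, 3), (6, 6), (21, 5), (21, 6), (4, 4), (5, 4), (6, 4)]⟩,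
    ⟨3, [4, 0], [0, 4, 6, 6], [(13, 0)], [], [(22, 2), (17, 1), (17, 0), (27, 3), (27, 2), (6, 3), (26, 4), (26, 3), (21, 2), (21, 1), (27, 5), (27, 4), (5, 2), (6, 2)], [(27, 3), (27, 4), (5, 2), (6, 2), (6, 2)]⟩,
    ⟨4, [0, 0, 0], [], [(22, 3), (22, 2), (17, 1), (6, 3), (27, 3), (6, 4), (17, 3), (17, 2), (0, 0), (27, 2), (27, 1), (6, 2), (27, 2), (5, 0), (6, 0)], [], [(17, 3), (17, 2), (0, 0), (27, 2), (27, 1), (6, 2), (22, 2), (17, 1), (17, 0), (27, 3), (27, 2), (6, 3), (27, 4), (27, 3), (5, 1), (27, 2), (27, 1), (22, 3), (22, 2), (17, 1), (6, 3), (22, 3), (17, 2), (0, 0), (6, 1), (5, 0)], []⟩]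
  adj := [
    [],
    [],
    [],
    [],
    [(7, 1), (9, 2)],
    [(2, 1), (7, 2)],
    [(2, 1)]]
  base := []
  dense := [
    [0, 0, 0, 0, 0, 1, 1, 0, 0, 0, 0, 0, 0, 0, 0, 0, 0, 0, 0, 0, 0, 0, 0, 1, 0, 0, 0, 1],
    [0, 0, 0, 0, 0, 1, 0, 0, 0, 0, 0, 0, 0, 0, 0, 0, 0, 0, 0, 0, 0, 0, 2, 0, 0, 0, 0, 1],
    [0, 0, 0, 0, 0, 0, 0, 0, 0, 0, 0, 0, 0, 0, 0, 0, 0, 0, 0, 0, 0, 0, 0, 0, 1],
    [0, 0, 0, 0, 0, 0, 1, 0, 0, 0, 0, 0, 0, 0, 0, 0, 0, 0, 0, 0, 0, 0, 1],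
    [0, 0, 0, 0, 0, 0, 1],
    [0, 0, 0, 0, 1, 1, 0, 0, 0, 0, 0, 0, 0, 0, 0, 0, 0, 0, 0, 0, 0, 0, 0, 1, 2, 0, 1, 2],
    [0, 0, 0, 0, 1, 1, 2, 0, 0, 0, 0, 0, 0, 0, 0, 0, 0, 0, 0, 0, 0, 0, 0, 0, 0, 0, 1, 1],
    [0, 0, 0, 0, 0, 0, 1, 0, 0, 0, 0, 0, 0, 2, 0, 0, 0, 2, 0, 2, 0, 1, 1, 1, 1, 0, 1, 2],
    [0, 0, 0, 0, 1, 0, 1],
    [0, 0, 0, 0, 0, 0, 0, 0, 0, 0, 0, 0, 0, 0, 1, 0, 0, 2, 0, 0, 2, 0, 0, 1, 0, 1, 0, 2],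
    [0, 0, 0, 0, 2, 1, 0, 0, 0, 0, 0, 0, 0, 0, 0, 0, 0, 0, 0, 0, 0, 0, 0, 0, 2, 2, 0, 1],
    [0, 0, 0, 0, 0, 0, 2, 0, 0, 0, 0, 0, 0, 1, 0, 1, 0, 2, 0, 0, 0, 2, 1, 0, 1, 2, 0, 2],
    [0, 0, 0, 0, 0, 0, 0, 0, 0, 0, 0, 0, 0, 0, 1, 0, 2, 0, 2, 1, 2, 2, 0, 1, 0, 1, 0, 1],
    [0, 0, 0, 0, 0, 0, 0, 0, 0, 0, 0, 0, 0, 0, 0, 0, 0, 0, 0, 0, 0, 2, 2, 1, 0, 0, 1, 1],
    [0, 2, 0, 0, 2, 1, 1, 0, 0, 0, 0, 0, 0, 0, 0, 0, 0, 0, 0, 0, 0, 0, 0, 2, 0, 0, 0, 1],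
    [1, 2, 1, 1, 1, 0, 1, 0, 0, 0, 0, 0, 0, 1, 2, 2, 0, 2, 0, 2, 0, 2, 1, 2, 1],
    [0, 0, 0, 0, 2, 0, 1, 0, 0, 0, 2, 1, 2, 1, 0, 2, 0, 0, 2, 1, 0, 0, 0, 1, 1, 1, 1, 1],
    [0, 0, 0, 0, 0, 0, 2, 0, 0, 0, 0, 0, 0, 1, 2, 1, 1, 0, 0, 0, 2, 0, 0, 0, 0, 2, 1, 2],
    [0, 0, 0, 0, 2, 1, 2, 0, 0, 0, 2, 1, 2, 0, 2, 1, 1, 0, 1, 2, 1, 2, 2, 2, 2, 2, 2, 2],
    [0, 0, 0, 1, 0, 1],
    [2, 1, 2, 2, 1, 0, 0, 0, 0, 0, 0, 0, 0, 0, 0, 2, 2, 0, 2, 1, 0, 1, 2, 2, 0, 2, 0, 1],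
    [0, 0, 0, 0, 2, 0, 2, 0, 0, 2, 0, 2, 0, 1, 1, 2, 0, 1, 0, 2, 0, 0, 1, 2, 0, 0, 0, 2, 0, 0, 0, 0, 0, 0, 0, 0, 0, 0, 0, 0, 0, 0, 0, 0, 0, 0, 0, 2, 1],
    [0, 0, 0, 0, 0, 1, 0, 2, 1, 2, 2, 1, 1, 0, 0, 2, 0, 1, 2, 0, 0, 1, 2, 0, 2, 0, 0, 0, 0, 0, 0, 0, 0, 0, 0, 0, 0, 0, 0, 0, 0, 0, 0, 0, 0, 0, 0, 0, 2],
    [0, 0, 0, 0, 0, 2, 0, 2, 1, 0, 0, 1, 2, 2, 1, 0, 1, 1, 1, 0, 1, 0, 2, 2, 1, 0, 2, 1, 0, 0, 0, 0, 0, 0, 0, 0, 0, 0, 0, 0, 0, 0, 0, 0, 0, 0, 2, 0, 2],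
    [0, 0, 0, 0, 0, 0, 1, 0, 0, 0, 0, 0, 0, 1, 0, 0, 0, 1, 1, 2, 2, 1, 1, 0, 0, 1, 2, 0, 0, 0, 0, 0, 0, 0, 0, 0, 0, 0, 0, 0, 0, 0, 0, 0, 0, 0, 0, 0, 2],
    [0, 0, 0, 0, 1, 1, 2, 2, 0, 0, 0, 1, 0, 1, 2, 1, 2, 2, 2, 2, 1, 0, 2, 1, 1, 0, 0, 2, 0, 0, 0, 0, 0, 0, 0, 0, 0, 0, 0, 0, 0, 0, 0, 0, 0, 0, 2, 2, 1],
    [0, 0, 0, 0, 0, 0, 0, 0, 2, 0, 0, 0, 0, 2, 0, 2, 0, 2, 0, 2, 0, 0, 0, 0, 1, 0, 1, 1, 0, 0, 0, 0, 0, 0, 0, 0, 0, 0, 0, 0, 0, 0, 0, 0, 0, 0, 0, 0, 0, 0, 0, 0, 0, 0, 0, 2],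
    [0, 0, 0, 0, 0, 0, 0, 0, 0, 0, 0, 0, 0, 1, 0, 0, 0, 1, 0, 0, 0, 1, 2, 0, 0, 0, 1, 1, 0, 0, 0, 0, 0, 0, 0, 0, 0, 0, 0, 0, 0, 0, 0, 0, 0, 0, 0, 0, 0, 0, 0, 0, 0, 0, 0, 2],
    [2, 0, 0, 0, 0, 2, 0, 0, 0, 0, 0, 0, 0, 0, 0, 0, 0, 0, 0, 0, 0, 0, 1, 0, 0, 0, 0, 2]]
  tgt := [
    ([], [(1, 2), (28, 2)]),
    ([], [(0, 2), (1, 2), (3, 2), (4, 1), (8, 2), (14, 2)]),
    ([], []),
    ([], [(0, 2), (2, 1), (5, 1), (6, 2), (19, 1)]),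
    ([], [(4, 2), (8, 1)]),
    ([], [(0, 1), (2, 2), (5, 2), (6, 1)]),
    ([], [(4, 1)]),
    ([], []),
    ([], [(1, 1), (2, 1), (3, 1), (4, 1), (5, 2), (6, 2), (9, 1), (12, 2), (14, 2), (15, 1), (16, 2), (17, 1), (18, 1), (19, 2), (26, 2), (27, 1), (28, 1)]),
    ([], []),
    ([], [(1, 1), (2, 1), (3, 1), (4, 1), (5, 2), (6, 2), (7, 1), (8, 1), (9, 1), (10, 1), (13, 1), (14, 2), (16, 1), (17, 2), (18, 2), (19, 2), (20, 2), (21, 2), (22, 2), (23, 2), (24, 2), (25, 1), (26, 1), (27, 2), (28, 1)]),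
    ([], [(0, 1), (2, 2), (3, 1), (4, 1), (6, 2), (8, 1), (9, 1), (12, 2), (13, 1), (14, 2), (16, 2), (19, 2), (20, 2), (21, 2), (22, 1), (23, 2), (25, 1), (28, 1)]),
    ([], [(0, 1), (1, 2), (2, 2), (3, 1), (4, 2), (5, 2), (6, 2), (9, 1), (10, 1), (11, 2), (15, 2), (16, 2), (18, 2), (20, 2), (22, 2), (24, 1), (26, 2), (27, 1)]),
    ([], [(0, 1), (1, 1), (3, 1), (4, 1), (7, 1), (8, 1), (10, 2), (13, 1), (14, 2), (15, 2), (16, 1), (17, 2), (18, 2), (19, 2), (20, 1), (28, 1)]),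
    ([], [(1, 2), (2, 1), (3, 2), (4, 1), (5, 2), (6, 1), (7, 2), (9, 2), (10, 2), (11, 1), (12, 1), (14, 2), (15, 1), (16, 1), (17, 2), (18, 2), (19, 2), (28, 1)]),
    ([], [(0, 2), (2, 2), (4, 1), (5, 1), (6, 2), (7, 1), (8, 1), (9, 1), (10, 2), (11, 2), (12, 2), (13, 1), (15, 2), (16, 1), (17, 2), (18, 2), (20, 2)]),
    ([], [(1, 2), (2, 2), (5, 1), (6, 2), (8, 2), (9, 1), (10, 2), (11, 2), (12, 1), (13, 1), (16, 1), (18, 2)]),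
    ([], [(0, 1), (2, 2), (3, 2), (4, 1), (5, 2), (7, 2), (8, 1), (9, 1), (10, 2), (11, 1), (12, 2), (14, 2), (15, 1), (16, 2), (17, 1), (18, 1), (19, 2), (28, 1)]),
    ([], [(0, 2), (1, 2), (3, 2), (4, 1), (6, 1), (7, 1), (8, 2), (10, 2), (11, 1), (12, 1), (13, 1), (14, 1), (15, 1), (16, 1), (17, 1), (18, 2), (19, 1), (20, 2), (28, 2)]),
    ([], [(1, 1), (2, 2), (3, 2), (4, 2), (5, 1), (6, 2), (7, 2), (8, 2), (9, 2), (10, 2), (11, 2), (12, 1), (13, 1), (14, 2), (19, 2), (20, 2), (28, 1)]),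
    ([], [(0, 1), (1, 1), (3, 2), (4, 1), (5, 2), (6, 2), (8, 1), (10, 2), (12, 2), (16, 2), (17, 1), (18, 1)]),
    ([], [(1, 2), (2, 1), (3, 1), (5, 1), (8, 2), (13, 2)]),
    ([], [(3, 1), (4, 2)]),
    ([], [(0, 1), (1, 2), (3, 2)]),
    ([], [(2, 1)]),
    ([], [(1, 1), (2, 2), (3, 1), (8, 2), (10, 2)]),
    ([], [(1, 2), (3, 2), (6, 1), (8, 2)]),
    ([], [(0, 2), (1, 1), (2, 1), (3, 1), (4, 2), (5, 1), (6, 2)])]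

/-- Orbits inside the subgroup. -/
def orbits : List (ℕ × List (ℕ × List ℕ)) := [
    (0, [(0, []), (1, [0, 0, 2, 5]), (2, [0, 1, 3, 4, 5]), (3, [0, 1, 3]), (4, [1, 2, 5]), (5, [2, 2, 5, 5]), (6, [0, 1, 2]), (7, [0, 1, 1, 2, 4]), (8, [2, 3, 3, 5]), (9, [0, 3, 4, 5, 6]), (10, [3, 3, 4, 4, 5, 5]), (11, [1, 2, 2]), (12, [0, 1, 4]), (13, [0, 2, 4, 6]), (14, [0, 1, 3, 4, 6]), (15, [2, 2, 5, 6]), (16, [0, 3, 5]), (17, [0, 0, 2]), (18, [2, 2, 4, 4, 6]), (20, [2, 5, 5, 6]), (21, [0, 3, 4]), (22, [2, 3, 3, 4]), (23, [0, 2, 2, 3, 6]), (24, [1, 3, 3]), (25, [2, 4, 6, 6]), (26, [2, 3]), (27, [2, 3, 3, 5, 5, 6]), (28, [2, 2, 4, 6, 6]), (29, [2, 4, 5]), (30, [4, 6]), (31, [0, 2, 5, 5]), (32, [1, 4, 4, 6]), (33, [3, 4, 6]), (34, [1, 2, 4, 5]), (35, [2, 4, 5, 6]), (36, [5, 5]), (38, [0, 0, 3, 5, 6]), (39, [0, 0, 1, 4]), (40, [1, 2]),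 (42, [1, 4, 6]), (43, [1, 5]), (44, [0, 2, 3]), (45, [0, 0, 3, 5]), (46, [3, 4]), (48, [3, 6, 6]), (50, [2]), (52, [1, 6]), (53, [3, 4, 4, 5, 6, 6]), (54, [5]), (55, [2, 3, 3, 5, 5]), (56, [3, 5, 6, 6]), (57, [1, 2, 5, 5]), (58, [3, 5]), (59, [0, 2, 3, 6]), (60, [1, 3, 4, 6]), (61, [2, 4, 4]), (62, [4, 5, 6, 6]), (63, [0, 4, 4, 6]), (64, [2, 4, 5, 5]), (66, [3, 3, 4]), (67, [1, 1, 6]), (68, [1, 2, 3, 3]), (69, [0, 0, 5, 6]), (70, [4, 4, 5, 5]), (71, [2, 5, 6]), (72, [1, 2, 4, 5, 5]), (73, [1, 1, 2, 4]), (74, [0, 6, 6]), (75, [0, 0, 1]), (77, [2, 5, 5, 6, 6]), (78, [2, 4, 5, 6, 6]), (80, [3, 5, 5, 6]), (81, [0, 4]), (82, [0, 0, 1, 6]), (84, [2, 5, 6, 6]), (85, [1, 3, 6]), (86, [2, 3, 3, 6, 6]), (87, [2, 2, 3, 6]), (88, [2, 4, 4, 6]), (89, [1, 2, 3, 5, 5]), (90, [2, 3, 3, 4, 4, 6]), (92, [1, 2, 5, 5, 6, 6]), (94, [1,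 3, 4, 5, 5]), (95, [2, 4]), (96, [1, 1, 4, 4]), (97, [4, 5, 6]), (98, [1, 2, 3, 3, 4, 4]), (99, [0, 2, 2, 3, 4]), (101, [4]), (102, [2, 4, 4, 5]), (103, [0, 1, 1, 5, 5]), (104, [0, 2, 2, 3]), (106, [0, 1, 4, 4]), (107, [3, 4, 5]), (108, [0, 0, 3, 4]), (109, [4, 4, 5, 6, 6]), (110, [1, 3, 5]), (112, [4, 4, 5, 6]), (113, [2, 2, 3]), (114, [4, 4, 5]), (115, [2, 2, 3, 5, 6]), (117, [1, 3, 4, 5]), (118, [0, 2, 4]), (119, [1, 4, 4]), (120, [1, 3, 4]), (121, [3, 4, 5, 5, 6]), (123, [0, 1, 5]), (124, [1, 1, 5, 6]), (126, [2, 4, 4, 6, 6]), (128, [1, 3, 5, 5]), (129, [0, 2, 5]), (130, [0, 3, 5, 6]), (131, [2, 2, 4, 5]), (132, [0, 0, 3, 4, 5]), (133, [1, 1, 2]), (135, [3, 4, 5, 6, 6]), (136, [5, 6, 6]), (137, [2, 2, 4]), (138, [1, 1, 4, 6]), (139, [2, 2]), (140, [3, 4, 4, 5]), (141, [2, 3, 4, 6, 6]), (142, [2, 6, 6]), (144, [0,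 0, 5, 5]), (145, [6]), (146, [1, 3, 3, 5]), (148, [0, 3]), (149, [2, 2, 3, 5, 6, 6]), (151, [2, 2, 5, 5, 6]), (152, [0, 4, 6]), (153, [0, 1, 2, 6]), (154, [4, 5, 5]), (155, [3, 3, 5, 6]), (156, [1, 3, 4, 4, 5]), (157, [0, 1, 5, 5]), (158, [1, 5, 5]), (159, [1, 3, 4, 4]), (160, [3, 4, 5, 6]), (161, [2, 2, 5, 6, 6]), (162, [1, 1, 5]), (163, [1, 1, 6, 6]), (164, [0, 0, 3]), (165, [0, 1, 2, 5]), (166, [1, 1]), (167, [0, 1, 3, 4]), (169, [3, 4, 4, 5, 5]), (170, [3, 6]), (171, [1, 4]), (172, [2, 2, 5]), (173, [1, 3, 5, 5, 6]), (174, [1, 1, 2, 6, 6]), (175, [1, 2, 4, 5, 6]), (176, [0, 0, 4]), (177, [2, 2, 6, 6]), (178, [1, 1, 5, 5]), (179, [3, 4, 4, 5, 6]), (180, [2, 4, 4, 5, 5]), (181, [2, 5, 5]), (182, [0]), (183, [3]), (184, [1, 1, 2, 6]), (185, [0, 1, 1, 3, 4]), (186, [2, 3, 4]), (187, [1, 1, 4]), (188, [0, 3, 4, 5]),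 (189, [1, 3]), (190, [2, 5]), (191, [6, 6]), (192, [0, 0]), (193, [2, 6]), (194, [2, 2, 3, 5]), (195, [2, 3, 3, 4, 4]), (196, [2, 4, 6]), (197, [3, 5, 5]), (198, [0, 1, 6, 6]), (199, [5, 5, 6]), (200, [4, 4, 6, 6]), (201, [0, 2, 4, 6, 6]), (202, [0, 6]), (204, [2, 2, 3, 4]), (206, [2, 3, 4, 5]), (207, [4, 4]), (208, [1, 2, 3]), (209, [2, 2, 6]), (210, [0, 2, 2, 6]), (211, [2, 2, 4, 4]), (212, [0, 4, 4]), (213, [5, 5, 6, 6]), (214, [3, 3, 5]), (215, [1, 3, 3, 6]), (216, [1, 1, 3, 4]), (217, [0, 5]), (218, [0, 5, 6]), (219, [2, 2, 3, 4, 6]), (220, [3, 3, 4, 6]), (221, [1]), (222, [2, 3, 3, 6]), (223, [3, 4, 4]), (225, [1, 1, 3, 3]), (226, [0, 2, 5, 5, 6]), (227, [0, 2, 6]), (228, [2, 3, 4, 6]), (229, [2, 3, 6]), (230, [3, 3, 6]), (231, [3, 4, 5, 5]), (232, [1, 2, 3, 4]), (233, [2, 3, 4, 4]), (235, [3, 3, 5, 5, 6]), (236,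 [0, 1, 1, 2, 6]), (237, [3, 3, 4, 6, 6]), (238, [3, 5, 6]), (239, [0, 5, 5]), (240, [0, 1, 2, 2]), (241, [1, 2, 6]), (242, [0, 1, 6]), (244, [1, 2, 5, 5, 6]), (245, [3, 3, 4, 4, 5]), (246, [2, 2, 4, 6]), (247, [0, 2, 2, 4]), (249, [2, 3, 3]), (250, [0, 0, 5]), (252, [0, 1, 1, 2]), (253, [1, 1, 2, 4, 6]), (254, [3, 4, 6, 6]), (255, [0, 0, 2, 5, 5]), (256, [4, 4, 6]), (257, [1, 6, 6]), (258, [0, 2, 3, 4, 4]), (259, [4, 5]), (260, [1, 2, 6, 6]), (261, [1, 4, 5]), (262, [3, 3, 4, 5]), (263, [4, 6, 6]), (264, [0, 1]), (265, [0, 2, 6, 6]), (266, [3, 3]), (267, [0, 2, 2]), (269, [0, 2]), (270, [3, 4, 4, 6]), (271, [0, 1, 3, 5]), (272, [0, 1, 2, 6, 6]), (274, [5, 6]), (275, [3, 3, 5, 5])]),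
    (75, [(75, []), (82, [0, 1, 2, 3, 4, 5]), (154, [0, 0, 1, 4, 4, 5, 6])]),
    (113, [(92, [1, 2, 2, 3, 3, 4, 4, 6]), (113, []), (227, [1, 1, 2, 3, 5])])]

theorem ident_ok : identPerm 9 CfsgLib.Spor.CoThreePerm.eltRows 1387 CfsgLib.Spor.CoThreePerm.basePts cert sw gw = true := by decide +kernel

theorem sub_ok : subPermOK 276 9 CfsgLib.Spor.CoThreePerm.eltRows sw [] orbits = true := by decide +kernel

theorem shape_ok : cert.shapeOK = true := by decide +kernel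

theorem lin_ok : cert.linOK = true := by decide +kernel

theorem prod_ok : cert.p ^ cert.m ≤ (orbits.map fun e => e.2.length).prod := by decide +kernel

end CfsgLib.Spor.CoThreeMult.P3
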