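import Cfsg.Agent.Lib.Spor.SchurCert.PermBridge
import Cfsg.Agent.Lib.Spor.CoThreePerm.Data

/-!
The certificate at the prime 5: a polycyclic sequence of a Sylow subgroup and conjugations killing the tails.
-/

set_option autoImplicit false
set_option maxRecDepth 100000
set_option maxHeartbeats 0

namespace CfsgLib.Spor.CoThreeMult.P5

open CfsgLib.Spor.SchurCert

/-- The Sylow elements. -/
def sw : List (List ℕ) := [
    [318, 894, 466, 1119, 943, 941],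
    [535, 867, 1129, 1096, 1081, 1076],
    [323, 1186, 367, 846, 948, 9]]

/-- The conjugating elements. -/
def gw : List (List ℕ) := [
    [902, 255, 477, 1102, 1089, 9],
    [637, 625, 583, 694, 1081, 1074],
    [918, 632, 865, 450, 805, 9],
    [535, 207, 291, 570, 1092, 9]]

/-- The certificate. -/
def cert : SchurCert.Cert where
  p := 5
  m := 3
  N := 5
  rules := [
    ([0, 0, 0, 0, 0], []),
    ([1, 1, 1, 1, 1], []),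
    ([2, 2, 2, 2, 2], []),
    ([1, 0], [0, 1, 2, 2, 2]),
    ([2, 0], [0, 2]),
    ([2, 1], [1, 2])]
  maps := [
    [([0, 1, 2, 2, 2, 2], [0, 0, 1, 1, 2])],
    [([0, 1, 1, 1, 2], [0, 0, 1, 2])],
    [([0], [0, 0, 0, 1, 1, 1, 2, 2]), ([1], [0, 0, 0, 0, 1, 1]), ([2], [2, 2, 2, 2])],
    [([0], [0, 0, 0, 0, 1, 1, 1, 2, 2, 2, 2]), ([1], [1, 2]), ([2], [2, 2, 2, 2])]]
  overlaps := [
    ([1, 1, 1, 1, 1, 0], [(1, 0)], [(3, 4), (3, 3), (3, 2), (3, 1), (3, 0), (5, 4), (5, 3), (5, 2), (2, 3), (5, 3), (5, 7), (5, 6), (5, 5), (5, 4), (2, 5), (5, 6), (5, 5), (1, 1), (2, 1)])]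
  fuses := [
    ⟨0, [0, 0, 0, 0, 0], [], [(4, 5), (4, 4), (4, 3), (4, 2), (3, 1), (2, 3), (5, 4), (5, 3), (2, 4), (4, 4), (3, 3), (3, 2), (5, 6), (5, 5), (5, 4), (2, 5), (5, 6), (5, 5), (2, 6), (4, 6), (3, 5), (3, 4), (3, 3), (5, 7), (5, 6), (5, 5), (2, 6), (5, 6), (2, 7), (4, 11), (4, 10), (4, 9), (4, 8), (3, 7), (3, 6), (3, 5), (3, 4), (0, 0), (5, 3), (5, 2), (5, 1), (2, 2), (5, 2), (5, 6), (5, 5), (5, 4), (5, 3), (2, 4), (2, 4), (5, 4), (1, 0), (2, 0)], [], [(4, 4), (3, 3), (3, 2), (5, 6), (5, 5), (5, 4), (2, 5), (4, 6), (4, 5), (3, 4), (3, 3), (5, 7), (5, 6), (5, 5), (2, 6), (5, 8), (5, 7), (5, 6), (5, 9), (5, 8), (5, 7), (4, 11), (4, 10), (4, 9), (4, 8), (3, 7), (3, 6), (3, 5), (3, 4), (0, 0), (5, 3), (5, 2), (5, 1), (2, 2), (5, 2), (5, 6), (5, 5), (5, 4), (5, 3), (2, 4), (2, 4), (4, 4), (3, 3), (3, 2), (3, 1), (3, 0), (5, 4), (5, 3), (5,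 2), (2, 3), (5, 3), (5, 7), (5, 6), (5, 5), (5, 4), (2, 5), (5, 7), (5, 6), (5, 5), (1, 1), (5, 3), (5, 2), (5, 1), (4, 5), (4, 4), (4, 3), (4, 2), (3, 1), (2, 3), (4, 4), (4, 3), (3, 2), (2, 4), (4, 6), (3, 5), (3, 4), (3, 3), (5, 7), (5, 6), (5, 5), (2, 6), (5, 6), (2, 7), (3, 6), (3, 5), (3, 4), (0, 0), (5, 3), (5, 2), (5, 1), (2, 2), (5, 2), (5, 6), (5, 5), (5, 4), (5, 3), (5, 7), (5, 6), (5, 5), (5, 4), (1, 0), (2, 0)], []⟩,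
    ⟨1, [0, 0, 0, 0, 0], [], [(4, 4), (3, 3), (3, 2), (3, 1), (5, 5), (5, 4), (5, 3), (2, 4), (5, 4), (2, 5), (1, 2), (4, 3), (3, 2), (5, 7), (5, 6), (5, 5), (5, 4), (5, 8), (5, 7), (5, 6), (5, 5), (5, 9), (5, 8), (5, 7), (5, 6), (2, 7), (3, 6), (3, 5), (3, 4), (3, 3), (5, 7), (5, 6), (5, 5), (2, 6), (5, 6), (5, 10), (5, 9), (5, 8), (5, 7), (2, 8), (5, 9), (5, 8), (1, 4), (5, 5), (5, 4), (5, 6), (5, 5), (4, 8), (4, 7), (4, 6), (3, 5), (3, 4), (0, 0), (5, 3), (5, 2), (5, 1), (2, 2), (5, 5), (5, 4), (5, 3), (5, 2), (5, 6), (5, 5), (5, 4), (5, 3), (5, 7), (5, 6), (5, 5), (5, 4), (1, 0), (2, 0)], [], [(4, 3), (3, 2), (4, 7), (4, 6), (4, 5), (4, 4), (3, 3), (2, 5), (5, 6), (5, 5), (4, 8), (4, 7), (4, 6), (3, 5), (3, 4), (0, 0), (5, 3), (5, 2), (5, 1), (2, 2), (4, 5), (4, 4), (4, 3), (4, 2), (3, 1), (3, 0), (5, 4), (5, 3), (5, 2), (2, 3), (2, 3), (4,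 4), (3, 3), (3, 2), (3, 1), (5, 5), (5, 4), (5, 3), (2, 4), (5, 4), (2, 5), (3, 4), (3, 3), (3, 2), (5, 6), (5, 5), (5, 4), (2, 5), (5, 5), (5, 9), (5, 8), (5, 7), (5, 6), (2, 7), (3, 6), (3, 5), (3, 4), (3, 3), (5, 7), (5, 6), (5, 5), (2, 6), (5, 6), (5, 10), (5, 9), (5, 8), (5, 7), (2, 8), (4, 9), (4, 8), (3, 7), (3, 6), (3, 5), (3, 4), (0, 0), (5, 3), (5, 2), (5, 1), (2, 2), (5, 2), (5, 6), (5, 5), (5, 4), (5, 3), (2, 4), (5, 7), (5, 6), (5, 5), (5, 4), (1, 0), (2, 0)], []⟩,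
    ⟨2, [2, 0], [0, 2], [(4, 0)], [], [(4, 3), (4, 2), (4, 1), (4, 0), (4, 4), (4, 3), (4, 2), (4, 1), (4, 5), (4, 4), (4, 3), (4, 2), (5, 6), (5, 5), (5, 4), (5, 3), (5, 7), (5, 6), (5, 5), (5, 4), (5, 8), (5, 7), (5, 6), (5, 5), (2, 6)], [(2, 6)]⟩,
    ⟨3, [2, 0], [0, 2], [(4, 0)], [], [(4, 3), (4, 2), (4, 1), (4, 0), (4, 4), (4, 3), (4, 2), (4, 1), (4, 5), (4, 4), (4, 3), (4, 2), (4, 6), (4, 5), (4, 4), (4, 3), (5, 7), (5, 6), (5, 5), (5, 4), (5, 8), (5, 7), (5, 6), (5, 5), (5, 9), (5, 8), (5, 7), (5, 6), (2, 7)], [(2, 7)]⟩]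
  adj := [
    [],
    [],
    [(3, 2)]]
  base := []
  dense := [
    [0, 0, 2],
    [4, 4, 2],
    [4, 2, 4],
    [0, 0, 0, 0, 4, 3],
    [0, 0, 0, 0, 0, 3]]
  tgt := [
    ([], [(0, 3), (1, 1), (2, 3)]),
    ([], [(0, 3), (1, 3), (2, 2)]),
    ([], [(0, 3)]),
    ([], []),
    ([], [(3, 4), (4, 1)]),
    ([], [(4, 2)])]

/-- Orbits inside the subgroup. -/
def orbits : List (ℕ × List (ℕ × List ℕ)) := [
    (0, [(0, []), (5, [0, 0, 0, 1, 1]), (36, [1]), (45, [0]), (46, [0, 0, 0, 0, 1]), (48, [2]), (51, [0, 0, 2]), (63, [0, 1, 2]), (72, [0, 2]), (80, [0, 0, 0, 0, 1, 1]), (90, [0, 0]), (103, [0, 0, 0, 0]), (114, [0, 0, 0, 0, 1, 2]), (125, [0, 0, 1]), (152, [0, 0, 0, 1]), (161, [0, 1]), (169, [1, 1]), (182, [0, 0, 1, 2]), (202, [0, 0, 1, 1]), (219, [0, 0, 0]), (221, [0, 0, 0, 0, 2]), (227, [0, 1, 1]), (228, [1, 2]), (241, [0, 0, 0, 1, 2]), (246,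 [0, 0, 0, 2])]),
    (75, [(75, []), (92, [1, 1, 1, 1, 2, 2]), (174, [1, 1, 1, 2, 2, 2, 2]), (263, [1, 2, 2, 2]), (274, [1, 1, 2])])]

theorem ident_ok : identPerm 9 CfsgLib.Spor.CoThreePerm.eltRows 1387 CfsgLib.Spor.CoThreePerm.basePts cert sw gw = true := by decide +kernel

theorem sub_ok : subPermOK 276 9 CfsgLib.Spor.CoThreePerm.eltRows sw [] orbits = true := by decide +kernel

theorem shape_ok : cert.shapeOK = true := by decide +kernel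

theorem lin_ok : cert.linOK = true := by decide +kernel

theorem prod_ok : cert.p ^ cert.m ≤ (orbits.map fun e => e.2.length).prod := by decide +kernel

end CfsgLib.Spor.CoThreeMult.P5
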