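import Cfsg.Agent.Lib.Spor.CoThreeMult.P2
import Cfsg.Agent.Lib.Spor.CoThreeMult.P3
import Cfsg.Agent.Lib.Spor.CoThreeMult.P5
import Cfsg.Agent.Lib.Spor.CoThreeMult.P7
import Cfsg.Agent.Lib.Spor.CoThreeMult.P11
import Cfsg.Agent.Lib.Spor.CoThreeMult.P23
import Cfsg.Agent.Lib.Spor.CoThreePerm.Group
import Cfsg.Agent.Lib.Lie.Mult.Sylow

/-!
The Schur multiplier of the third Conway group is trivial: a certificate at each prime dividing the order.
-/

set_option autoImplicit false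
set_option maxRecDepth 20000

namespace CfsgLib.Spor.CoThreeMult

open Cfsg CfsgLib.Spor.PermCert CfsgLib.Spor.SchurCert CfsgLib.Spor.CoThreePerm

theorem factor_of {p a b : ℕ} (hp : p.Prime) (hb : ¬ p ∣ b) (e : (495766656000 : ℕ) = p ^ a * b) :
    (495766656000 : ℕ).factorization p = a := by
  have h0 : b ≠ 0 := by rintro rfl; simp at e
  rw [e, Nat.factorization_mul (pow_ne_zero _ hp.ne_zero) h0, Nat.factorization_pow, Finsupp.add_apply,
    Finsupp.smul_apply, hp.factorization_self, Nat.factorization_eq_zero_of_not_dvd hb]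
  simp

theorem not_dvd_of_cert {Γ : Type*} [Group Γ] [Finite Γ] {σ : Γ →* ↥P} (hσ : Cfsg.IsStemExtension σ) (C : Cert)
    [Fact C.p.Prime] (sw gw : List (List ℕ)) (T : List (ℕ × List (ℕ × List ℕ))) (hN : C.N = C.p)
    (hb : C.base.isEmpty = true) (hfac : (495766656000 : ℕ).factorization C.p = C.m)
    (hid : identPerm 9 CoThreePerm.eltRows 1387 CoThreePerm.basePts C sw gw = true) (hsub : subPermOK 276 9 CoThreePerm.eltRows sw [] T = true)
    (hT : C.p ^ C.m ≤ (T.map fun e => e.2.length).prod) (hshape : C.shapeOK = true) (hlin : C.linOK = true) :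
    ¬ C.p ∣ Nat.card σ.ker := by
  obtain ⟨γ, conj, h1, h2, h3, h4⟩ := perm_facts (n := 276) elt_mem chain_check.1 card_eq (fun b hb => base_lt hb)
    C sw gw T (by rw [card_P]; exact hfac) hid hsub hT hshape
  exact not_dvd_ker C hσ hN hb γ conj h1 h2 hshape hlin h3 h4

theorem ker_eq_bot {Γ : Type*} [Group Γ] [Finite Γ] (σ : Γ →* ↥P) (hσ : Cfsg.IsStemExtension σ) :
    σ.ker = ⊥ := by
  refine Lie.Mult.ker_eq_bot_of_forall fun ℓ hℓ => ?_
  have : Fact ℓ.Prime := ⟨hℓ⟩
  by_cases h2 : ℓ = 2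
  · subst h2
    haveI : Fact P2.cert.p.Prime := ⟨by rw [show P2.cert.p = 2 from rfl]; norm_num⟩
    exact not_dvd_of_cert hσ P2.cert P2.sw P2.gw P2.orbits rfl rfl
      (factor_of (p := 2) (a := 10) (b := 484147125) (by norm_num) (by norm_num) (by norm_num))
      P2.ident_ok P2.sub_ok P2.prod_ok P2.shape_ok P2.lin_ok
  by_cases h3 : ℓ = 3
  · subst h3
    haveI : Fact P3.cert.p.Prime := ⟨by rw [show P3.cert.p = 3 from rfl]; norm_num⟩
    exact not_dvd_of_cert hσ P3.cert P3.sw P3.gw P3.orbits rfl rfl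
      (factor_of (p := 3) (a := 7) (b := 226688000) (by norm_num) (by norm_num) (by norm_num))
      P3.ident_ok P3.sub_ok P3.prod_ok P3.shape_ok P3.lin_ok
  by_cases h5 : ℓ = 5
  · subst h5
    haveI : Fact P5.cert.p.Prime := ⟨by rw [show P5.cert.p = 5 from rfl]; norm_num⟩
    exact not_dvd_of_cert hσ P5.cert P5.sw P5.gw P5.orbits rfl rfl
      (factor_of (p := 5) (a := 3) (b := 3966133248) (by norm_num) (by norm_num) (by norm_num))
      P5.ident_ok P5.sub_ok P5.prod_ok P5.shape_ok P5.lin_ok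
  by_cases h7 : ℓ = 7
  · subst h7
    haveI : Fact P7.cert.p.Prime := ⟨by rw [show P7.cert.p = 7 from rfl]; norm_num⟩
    exact not_dvd_of_cert hσ P7.cert P7.sw P7.gw P7.orbits rfl rfl
      (factor_of (p := 7) (a := 1) (b := 70823808000) (by norm_num) (by norm_num) (by norm_num))
      P7.ident_ok P7.sub_ok P7.prod_ok P7.shape_ok P7.lin_ok
  by_cases h11 : ℓ = 11
  · subst h11
    haveI : Fact P11.cert.p.Prime := ⟨by rw [show P11.cert.p = 11 from rfl]; norm_num⟩
    exact not_dvd_of_cert hσ P11.cert P11.sw P11.gw P11.orbits rfl rfl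
      (factor_of (p := 11) (a := 1) (b := 45069696000) (by norm_num) (by norm_num) (by norm_num))
      P11.ident_ok P11.sub_ok P11.prod_ok P11.shape_ok P11.lin_ok
  by_cases h23 : ℓ = 23
  · subst h23
    haveI : Fact P23.cert.p.Prime := ⟨by rw [show P23.cert.p = 23 from rfl]; norm_num⟩
    exact not_dvd_of_cert hσ P23.cert P23.sw P23.gw P23.orbits rfl rfl
      (factor_of (p := 23) (a := 1) (b := 21555072000) (by norm_num) (by norm_num) (by norm_num))
      P23.ident_ok P23.sub_ok P23.prod_ok P23.shape_ok P23.lin_ok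
  refine Lie.Mult.not_dvd_ker_of_cyclic hσ ⊥ ?_
  rw [Subgroup.index_bot, card_P]
  intro hd
  have e : (495766656000 : ℕ) = ([(2, 10), (3, 7), (5, 3), (7, 1), (11, 1), (23, 1)].map fun t : ℕ × ℕ =>
    t.1 ^ t.2).prod := by norm_num
  rw [e] at hd
  obtain ⟨x, hx, hd⟩ := hℓ.prime.dvd_prod_iff.1 hd
  obtain ⟨t, ht, rfl⟩ := List.mem_map.1 hx
  have hd' := hℓ.dvd_of_dvd_pow hd
  simp only [List.mem_cons, List.not_mem_nil, or_false] at ht
  rcases ht with rfl | rfl | rfl | rfl | rfl | rfl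
  · exact h2 ((Nat.prime_dvd_prime_iff_eq hℓ (by norm_num)).1 hd')
  · exact h3 ((Nat.prime_dvd_prime_iff_eq hℓ (by norm_num)).1 hd')
  · exact h5 ((Nat.prime_dvd_prime_iff_eq hℓ (by norm_num)).1 hd')
  · exact h7 ((Nat.prime_dvd_prime_iff_eq hℓ (by norm_num)).1 hd')
  · exact h11 ((Nat.prime_dvd_prime_iff_eq hℓ (by norm_num)).1 hd')
  · exact h23 ((Nat.prime_dvd_prime_iff_eq hℓ (by norm_num)).1 hd')

universe u

theorem multiplier_Co3 : Cfsg.HasCyclicSchurMultiplier ↥Cfsg.Spor.Co3 1 := by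
  obtain ⟨e⟩ := nonempty_equiv_Co3
  have : Finite ↥P := Nat.finite_of_card_ne_zero (by rw [card_P]; norm_num)
  have : Finite ↥Cfsg.Spor.Co3 := Finite.of_equiv _ e.symm.toEquiv
  exact Lie.Mult.hasCyclic_one_congr e.symm fun Γ _ _ σ hσ => ker_eq_bot σ hσ

end CfsgLib.Spor.CoThreeMult
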