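import Cfsg.Agent.Lib.Spor.SchurCert.PermBridge
import Cfsg.Agent.Lib.Spor.CoThreePerm.Data

/-!
The certificate at the prime 2: a polycyclic sequence of a Sylow subgroup and conjugations killing the tails.
-/

set_option autoImplicit false
set_option maxRecDepth 100000
set_option maxHeartbeats 0

namespace CfsgLib.Spor.CoThreeMult.P2

open CfsgLib.Spor.SchurCert

/-- The Sylow elements. -/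
def sw : List (List ℕ) := [
    [538, 1013, 607, 847, 810, 1073],
    [132, 1177, 708, 573, 821, 1074],
    [26, 302, 588, 577, 823, 1076],
    [275, 887, 1125, 1112, 819, 1075],
    [339, 636, 707, 571, 1089, 1076],
    [139, 254, 463, 577, 1090, 1076],
    [644, 313, 1131, 1120, 828, 9],
    [1201, 1173, 717, 1117, 1083, 1074],
    [420, 764, 468, 451, 814, 1075],
    [1039, 614, 467, 1103, 830, 1074]]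

/-- The conjugating elements. -/
def gw : List (List ℕ) := [
    [223, 1023, 604, 1097, 1087, 941],
    [898, 394, 992, 702, 831, 9],
    [226, 737, 724, 969, 803, 941],
    [768, 307, 851, 839, 947, 1075],
    [1201, 1151, 858, 1108, 1084, 941]]

/-- The certificate. -/
def cert : SchurCert.Cert where
  p := 2
  m := 10
  N := 2
  rules := [
    ([0, 0], [5, 9]),
    ([1, 1], [4, 7]),
    ([2, 2], [5, 7]),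
    ([3, 3], []),
    ([4, 4], [9]),
    ([5, 5], [9]),
    ([6, 6], [9]),
    ([7, 7], []),
    ([8, 8], [9]),
    ([9, 9], []),
    ([1, 0], [0, 1, 2, 3]),
    ([2, 0], [0, 2, 5, 7, 8]),
    ([2, 1], [1, 2, 4, 5]),
    ([3, 0], [0, 3, 5, 7, 8, 9]),
    ([3, 1], [1, 3, 4, 7, 9]),
    ([3, 2], [2, 3, 5]),
    ([4, 0], [0, 4, 5]),
    ([4, 1], [1, 4, 9]),
    ([4, 2], [2, 4, 7]),
    ([4, 3], [3, 4]),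
    ([5, 0], [0, 5]),
    ([5, 1], [1, 5, 7, 9]),
    ([5, 2], [2, 5, 9]),
    ([5, 3], [3, 5, 9]),
    ([5, 4], [4, 5, 9]),
    ([6, 0], [0, 6, 7, 8]),
    ([6, 1], [1, 6]),
    ([6, 2], [2, 6, 9]),
    ([6, 3], [3, 6]),
    ([6, 4], [4, 6]),
    ([6, 5], [5, 6]),
    ([7, 0], [0, 7]),
    ([7, 1], [1, 7, 9]),
    ([7, 2], [2, 7, 9]),
    ([7, 3], [3, 7, 9]),
    ([7, 4], [4, 7]),
    ([7, 5], [5, 7]),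
    ([7, 6], [6, 7]),
    ([8, 0], [0, 8, 9]),
    ([8, 1], [1, 8]),
    ([8, 2], [2, 8]),
    ([8, 3], [3, 8]),
    ([8, 4], [4, 8]),
    ([8, 5], [5, 8]),
    ([8, 6], [6, 8, 9]),
    ([8, 7], [7, 8]),
    ([9, 0], [0, 9]),
    ([9, 1], [1, 9]),
    ([9, 2], [2, 9]),
    ([9, 3], [3, 9]),
    ([9, 4], [4, 9]),
    ([9, 5], [5, 9]),
    ([9, 6], [6, 9]),
    ([9, 7], [7, 9]),
    ([9, 8], [8, 9])]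
  maps := [
    [([1, 3, 5, 6], [1, 3, 5, 6, 7]), ([2, 3, 5, 8], [2, 3, 5, 7, 8]), ([4, 5, 8], [1, 2, 4, 6]), ([7], [7]), ([9], [1, 2, 5, 6, 8])],
    [([0, 2, 4, 6, 8], [9]), ([3, 6, 7, 8], [0, 2, 3, 4, 7]), ([5, 8], [0, 2, 4, 5, 6]), ([9], [0, 2, 4, 6, 8])],
    [([0], [0, 3, 7, 9]), ([2], [0, 2, 6]), ([3], [3, 5, 7, 8]), ([4], [3, 4, 5, 8, 9]), ([5], [7, 8, 9]), ([6], [3, 5, 6, 8, 9]), ([7], [5, 8, 9]), ([8], [8, 9]), ([9], [9])],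
    [([3], [4, 5, 8]), ([4], [3, 5, 8, 9]), ([5], [3, 5, 6, 8]), ([6], [4, 5, 9]), ([7], [4, 5, 6, 7, 9]), ([8], [3, 6]), ([9], [9])],
    [([1, 3], [1, 3, 4, 5, 6, 7, 9]), ([2, 3], [1, 3, 5, 6, 8]), ([4], [2, 3, 5, 7]), ([5], [1, 3, 4, 5, 6, 8, 9]), ([6], [1, 2, 7, 8, 9]), ([7], [7]), ([8], [1, 3, 5, 7, 9]), ([9], [7, 9])]]
  overlaps := [
    ([0, 0, 0], [(0, 0), (46, 1), (20, 0)], [(0, 1)]),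
    ([1, 1, 1], [(1, 0), (32, 1), (17, 0), (53, 2), (9, 3)], [(1, 1)]),
    ([1, 1, 0], [(1, 0), (31, 1), (16, 0)], [(10, 1), (10, 0), (14, 3), (12, 2), (1, 1), (33, 2), (18, 1), (7, 3), (50, 3), (4, 2), (9, 2), (23, 2), (50, 4), (24, 3), (9, 5), (48, 6), (33, 5), (22, 4), (18, 3), (15, 2), (2, 1), (34, 2), (23, 1), (53, 3), (9, 4), (36, 3), (5, 2), (53, 2), (50, 3), (35, 2), (53, 4), (7, 3), (51, 3), (9, 4), (9, 5), (34, 4), (23, 3), (19, 2), (3, 1), (53, 3), (9, 4)]),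
    ([1, 0, 0], [(0, 1)], [(10, 0), (13, 3), (11, 2), (10, 1), (0, 0), (47, 1), (21, 0), (9, 3), (33, 2), (22, 1), (53, 3), (9, 4), (34, 3), (23, 2), (53, 4), (9, 5), (33, 4), (22, 3), (15, 2), (2, 1), (34, 2), (23, 1), (53, 3), (9, 4), (36, 3), (5, 2), (53, 2), (51, 3), (36, 2), (9, 4), (7, 3), (51, 3), (5, 2), (9, 2), (41, 3), (34, 2), (3, 1), (54, 2), (51, 3), (43, 2), (36, 1), (53, 4), (45, 3), (7, 2), (54, 3), (8, 2), (9, 2)]),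
    ([2, 2, 2], [(2, 0), (33, 1), (22, 0), (53, 2), (9, 3)], [(2, 1)]),
    ([2, 2, 0], [(2, 0), (31, 1), (20, 0)], [(11, 1), (11, 0), (40, 4), (33, 3), (22, 2), (2, 1), (36, 2), (5, 1), (53, 1), (9, 2), (7, 1), (54, 1), (51, 2), (43, 1), (53, 3), (45, 2), (54, 4), (8, 3), (9, 3)]),
    ([2, 0, 0], [(0, 1)], [(11, 0), (38, 4), (31, 3), (20, 2), (11, 1), (0, 0), (48, 1), (22, 0), (9, 2), (5, 1), (53, 1), (54, 2), (51, 3), (43, 2), (36, 1), (53, 4), (45, 3), (7, 2), (54, 3), (8, 2), (9, 2)]),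
    ([2, 2, 1], [(2, 0), (32, 1), (21, 0), (53, 3), (7, 2), (9, 2)], [(12, 1), (12, 0), (22, 3), (18, 2), (2, 1), (35, 2), (24, 1), (53, 3), (53, 4), (7, 3), (51, 3), (5, 2), (9, 2), (50, 2), (4, 1), (9, 1)]),
    ([2, 1, 1], [(1, 1)], [(12, 0), (21, 3), (17, 2), (12, 1), (1, 0), (33, 1), (18, 0), (7, 2), (50, 2), (4, 1), (9, 1), (24, 1), (9, 3), (5, 2), (53, 2), (9, 3)]),
    ([2, 1, 0], [(12, 0), (20, 3), (16, 2), (11, 1), (10, 0), (15, 3), (2, 2), (34, 3), (23, 2), (53, 4), (9, 5), (36, 4), (5, 3), (53, 3), (51, 4), (36, 3), (53, 5), (7, 4), (54, 4), (50, 5), (42, 4), (24, 3), (54, 5), (9, 6), (43, 5), (5, 4), (54, 4), (51, 5), (43, 4)], [(10, 1), (11, 0), (39, 4), (32, 3), (21, 2), (12, 1), (5, 4), (53, 4), (9, 5), (7, 4), (54, 4), (48, 5), (40, 4), (18, 3), (2, 2),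 (35, 3), (24, 2), (53, 4), (53, 5), (7, 4), (54, 4), (9, 5), (41, 4), (23, 3), (19, 2), (54, 5)]),
    ([3, 3, 0], [(3, 0)], [(13, 1), (13, 0), (49, 5), (41, 4), (34, 3), (23, 2), (3, 1), (53, 2), (9, 3), (51, 4), (43, 3), (36, 2), (5, 1), (53, 1), (54, 2), (9, 3), (45, 2), (7, 1), (8, 1), (9, 1)]),
    ([3, 0, 0], [(0, 1)], [(13, 0), (46, 5), (38, 4), (31, 3), (20, 2), (13, 1), (0, 0), (49, 1), (23, 0), (9, 2), (5, 1), (53, 1), (54, 2), (9, 3), (43, 2), (36, 1), (45, 3), (7, 2), (8, 2), (9, 2)]),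
    ([3, 3, 1], [(3, 0)], [(14, 1), (14, 0), (49, 4), (34, 3), (19, 2), (3, 1), (9, 3), (35, 2), (4, 1), (53, 1), (53, 2), (7, 1), (9, 1)]),
    ([3, 1, 1], [(1, 1)], [(14, 0), (47, 4), (32, 3), (17, 2), (14, 1), (1, 0), (34, 1), (19, 0), (50, 3), (35, 2), (4, 1), (53, 1), (9, 2), (7, 1), (50, 1), (9, 2), (9, 3)]),
    ([3, 1, 0], [(14, 0), (46, 4), (31, 3), (16, 2), (13, 1), (10, 0), (3, 3), (50, 6), (42, 5), (35, 4), (24, 3), (53, 5), (54, 6), (9, 7), (43, 6), (36, 5), (5, 4), (53, 4), (54, 5), (53, 6), (45, 5), (7, 4), (9, 5)], [(10, 1), (13, 0), (47, 5), (39, 4), (32, 3), (21, 2), (14, 1), (51, 5), (36, 4), (53, 6), (7, 5), (9, 5), (54, 6), (9, 7), (40, 6), (33, 5), (22, 4), (18, 3), (15, 2), (24, 4), (53, 6), (51, 7), (36, 6), (5, 5), (53, 5), (9, 6), (53, 6), (7, 5),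 (9, 5), (41, 5), (19, 4), (3, 3)]),
    ([3, 3, 2], [(3, 0)], [(15, 1), (15, 0), (23, 2), (3, 1), (51, 2), (5, 1), (9, 1)]),
    ([3, 2, 2], [(2, 1)], [(15, 0), (22, 2), (15, 1), (2, 0), (34, 1), (23, 0), (53, 2), (9, 3), (36, 2), (5, 1), (53, 1), (51, 2), (36, 1), (9, 3)]),
    ([3, 2, 0], [(15, 0), (20, 2), (13, 1), (11, 0), (41, 4), (34, 3), (23, 2), (53, 4), (9, 5), (43, 5), (36, 4), (5, 3), (53, 3), (54, 4), (53, 5), (45, 4), (7, 3), (54, 4), (8, 3), (9, 3), (51, 3)], [(11, 1), (13, 0), (48, 5), (40, 4), (33, 3), (22, 2), (15, 1), (5, 3), (9, 3), (54, 4), (9, 5), (43, 4), (36, 3), (45, 5), (7, 4), (8, 4)]),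
    ([3, 2, 1], [(15, 0), (21, 2), (14, 1), (12, 0), (23, 3), (19, 2), (50, 5), (24, 4), (4, 3), (51, 3), (9, 4), (53, 4), (9, 5), (36, 4), (5, 3), (53, 3), (53, 4), (7, 3), (9, 3)], [(12, 1), (14, 0), (48, 4), (33, 3), (18, 2), (15, 1), (24, 3), (53, 5), (53, 6), (7, 5), (9, 5), (50, 5), (24, 4), (4, 3), (51, 3), (9, 4), (51, 4), (5, 3), (9, 3)]),
    ([4, 4, 4], [(4, 0), (50, 0)], [(4, 1)]),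
    ([4, 4, 0], [(4, 0), (46, 0)], [(16, 1), (16, 0), (24, 2), (4, 1), (51, 1), (9, 2), (5, 1)]),
    ([4, 4, 1], [(4, 0), (47, 0)], [(17, 1), (17, 0), (50, 2), (4, 1), (9, 1)]),
    ([4, 1, 1], [(1, 1), (4, 0), (53, 0)], [(17, 0), (47, 2), (17, 1), (1, 0), (35, 1), (4, 0), (53, 0), (9, 1)]),
    ([4, 1, 0], [(17, 0), (46, 2), (16, 1), (10, 0)], [(10, 1), (16, 0), (21, 2), (17, 1), (51, 3), (53, 4), (9, 5), (33, 4), (22, 3), (18, 2), (36, 4), (53, 6), (7, 5), (9, 5), (23, 4), (19, 3)]),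
    ([4, 4, 2], [(4, 0), (48, 0)], [(18, 1), (18, 0), (35, 2), (4, 1), (53, 1), (53, 2), (7, 1)]),
    ([4, 2, 2], [(2, 1)], [(18, 0), (33, 2), (18, 1), (2, 0), (35, 1), (24, 0), (53, 2), (53, 3), (7, 2), (53, 2), (9, 3)]),
    ([4, 2, 0], [(18, 0), (31, 2), (16, 1), (11, 0), (42, 4), (35, 3), (24, 2), (53, 4), (54, 5), (51, 6), (43, 5), (36, 4), (5, 3), (53, 3), (54, 4), (9, 5), (45, 4), (7, 3)], [(11, 1), (16, 0), (22, 2), (18, 1), (36, 3), (51, 5), (36, 4), (5, 3), (53, 3), (9, 4), (7, 3)]),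
    ([4, 2, 1], [(18, 0), (32, 2), (17, 1), (12, 0), (24, 3), (4, 2), (51, 2), (9, 3), (53, 3), (9, 4)], [(12, 1), (17, 0), (48, 2), (18, 1), (50, 4), (35, 3), (4, 2), (53, 2), (9, 3), (36, 2)]),
    ([4, 4, 3], [(4, 0), (49, 0)], [(19, 1), (19, 0), (4, 1)]),
    ([4, 3, 0], [(19, 0), (16, 1), (13, 0), (50, 5), (42, 4), (35, 3), (24, 2), (53, 4), (54, 5), (9, 6), (43, 5), (36, 4), (5, 3), (53, 3), (54, 4)], [(13, 1), (16, 0), (23, 2), (19, 1), (51, 4), (5, 3), (9, 3)]),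
    ([4, 3, 2], [(19, 0), (18, 1), (15, 0), (24, 2), (53, 4)], [(15, 1), (18, 0), (34, 2), (19, 1), (51, 4), (36, 3)]),
    ([5, 5, 5], [(5, 0), (51, 0)], [(5, 1)]),
    ([6, 6, 6], [(6, 0), (52, 0)], [(6, 1)]),
    ([6, 6, 0], [(6, 0), (46, 0)], [(25, 1), (25, 0), (44, 3), (37, 2), (6, 1), (53, 1), (54, 2), (9, 3), (45, 2), (7, 1), (8, 1)]),
    ([6, 0, 0], [(0, 1), (30, 0)], [(25, 0), (38, 3), (31, 2), (25, 1), (0, 0), (52, 1), (53, 2), (54, 3), (53, 4), (45, 3), (7, 2), (54, 3), (8, 2), (9, 2)]),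
    ([6, 1, 1], [(1, 1), (29, 0)], [(26, 0), (26, 1), (1, 0), (37, 1)]),
    ([6, 1, 0], [(26, 0), (25, 1), (10, 0)], [(10, 1), (25, 0), (39, 3), (32, 2), (26, 1), (54, 4), (48, 5), (40, 4), (33, 3), (27, 2), (53, 4), (9, 5), (49, 6), (41, 5), (34, 4), (28, 3), (54, 6), (9, 7)]),
    ([6, 2, 2], [(2, 1), (30, 0)], [(27, 0), (48, 2), (27, 1), (2, 0), (37, 1), (9, 3)])]
  fuses := [
    ⟨0, [0, 0], [3], [(26, 3), (21, 2), (14, 1), (1, 0), (34, 1), (19, 0), (50, 3), (35, 2), (4, 1), (53, 1), (9, 2), (7, 1), (51, 1), (53, 2), (9, 3), (37, 2), (34, 3), (28, 2), (23, 1), (3, 0), (52, 1), (53, 2), (9, 3), (36, 2), (30, 1), (5, 0), (52, 0), (53, 1), (52, 2), (37, 1), (6, 0), (53, 0), (9, 1)], [], [(32, 4), (26, 3), (21, 2), (14, 1), (1, 0), (34, 1), (19, 0), (50, 3), (35, 2), (4,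 1), (53, 1), (9, 2), (7, 1), (51, 1), (53, 2), (9, 3), (37, 2), (7, 3), (49, 3), (28, 2), (23, 1), (3, 0), (52, 1), (9, 2), (30, 1), (5, 0), (52, 0), (52, 1), (6, 0), (9, 0)], []⟩,
    ⟨0, [2, 0], [0, 2, 3], [(39, 2), (21, 1), (17, 0), (51, 2), (53, 3), (9, 4), (41, 4), (34, 3), (23, 2), (19, 1), (53, 4), (9, 5), (43, 5), (36, 4), (5, 3), (53, 3), (54, 4), (52, 5), (44, 4), (37, 3), (9, 6)], [(29, 3), (24, 2), (52, 4), (51, 5), (30, 4), (5, 3), (52, 3), (9, 4), (45, 4)], [(26, 3), (17, 2), (12, 1), (1, 0), (33, 1), (18, 0), (7, 2), (50, 2), (4, 1), (9, 1), (24, 1), (9, 3), (28, 3), (23, 2), (19, 1), (52, 4), (51, 5), (30, 4), (5, 3), (52, 3), (9, 4), (6, 3), (53, 3)], [(32, 4), (26, 3), (21, 2), (14, 1), (1, 0), (34, 1), (19, 0), (50, 3), (35, 2), (4, 1), (53, 1), (9, 2),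 (7, 1), (51, 1), (53, 2), (9, 3), (37, 2), (7, 3), (48, 3), (27, 2), (22, 1), (15, 0), (5, 2), (9, 2), (9, 3), (29, 2), (6, 3), (53, 3)]⟩,
    ⟨0, [2, 2], [], [(42, 2), (24, 1), (4, 0), (51, 0), (9, 1), (43, 1), (5, 0), (54, 0), (54, 1), (8, 0), (9, 0)], [], [(26, 3), (17, 2), (12, 1), (1, 0), (33, 1), (18, 0), (7, 2), (50, 2), (4, 1), (9, 1), (24, 1), (9, 3), (27, 3), (22, 2), (18, 1), (2, 0), (35, 1), (24, 0), (53, 2), (53, 3), (7, 2), (51, 2), (5, 1), (9, 1), (52, 1), (9, 2), (29, 1), (4, 0), (52, 0), (52, 1), (6, 0), (9, 0)], []⟩,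
    ⟨0, [4, 2], [2, 4], [(50, 0), (51, 1), (54, 2)], [], [(39, 4), (26, 3), (21, 2), (12, 1), (1, 0), (33, 1), (18, 0), (7, 2), (50, 2), (4, 1), (9, 1), (5, 1), (53, 1), (9, 2), (37, 1), (40, 3), (33, 2), (27, 1), (2, 0), (37, 1), (53, 3), (7, 2), (9, 2), (42, 2), (29, 1), (24, 0), (52, 2), (54, 3), (52, 4), (44, 3), (6, 2), (54, 2), (9, 3)], [(26, 3), (17, 2), (12, 1), (1, 0), (33, 1), (18, 0), (7, 2), (50, 2), (4, 1), (9, 1), (24, 1), (9, 3), (27, 3), (22, 2), (18, 1), (2, 0), (35, 1), (24, 0), (53, 2), (53, 3), (7, 2), (51, 2), (5, 1), (9, 1), (52, 1), (9, 2), (30, 1), (6, 2), (54, 2)]⟩,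
    ⟨1, [0, 0], [], [(38, 4), (25, 3), (16, 2), (11, 1), (0, 0), (48, 1), (22, 0), (9, 2), (5, 1), (53, 1), (54, 2), (50, 3), (42, 2), (35, 1), (51, 4), (43, 3), (36, 2), (52, 5), (44, 4), (37, 3), (9, 6), (45, 5), (7, 4), (8, 4), (54, 4), (9, 5), (40, 4), (27, 3), (22, 2), (18, 1), (2, 0), (35, 1), (24, 0), (53, 2), (53, 3), (7, 2), (51, 2), (5, 1), (9, 1), (52, 1), (9, 2), (42, 2), (29, 1), (4, 0), (52, 0), (54, 1), (52, 2), (44, 1), (6, 0), (54, 0), (9, 1), (54, 1), (8, 0), (9, 0)], [], [(9, 0)], []⟩,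
    ⟨1, [1, 0], [0, 1], [(38, 3), (31, 2), (25, 1), (13, 0), (52, 5), (44, 4), (37, 3), (9, 6), (45, 5), (7, 4), (8, 4), (53, 4), (54, 5), (9, 6), (40, 5), (33, 4), (27, 3), (22, 2), (15, 1), (5, 3), (9, 3), (53, 4), (9, 5), (42, 5), (35, 4), (29, 3), (44, 6), (37, 5), (6, 4), (53, 4), (54, 5), (9, 6), (8, 5)], [(41, 4), (28, 3), (19, 2), (44, 5), (6, 4), (54, 4), (9, 5), (45, 4), (8, 5)], [], [(46, 0), (48, 1), (49, 2), (50, 3), (53, 4)]⟩,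
    ⟨1, [2, 0], [0, 2], [(38, 1), (20, 0), (48, 3), (40, 2), (22, 1), (54, 3), (9, 4), (42, 3), (24, 2), (54, 4), (52, 5), (44, 4), (9, 6), (8, 5)], [(43, 4), (30, 3), (8, 5)], [], [(46, 0), (48, 1), (50, 2), (51, 3), (52, 4)]⟩,
    ⟨2, [0, 0], [4, 8], [(0, 0)], [], [(46, 3), (31, 2), (13, 1), (0, 0), (49, 1), (23, 0), (9, 2), (5, 1), (53, 1), (54, 2), (9, 3), (45, 2), (7, 1), (49, 2), (41, 1), (3, 0), (53, 1), (45, 0), (9, 2)], [(9, 2)]⟩,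
    ⟨2, [1, 0], [0, 1, 4, 6, 7], [(11, 0)], [], [(25, 2), (11, 1), (0, 0), (48, 1), (22, 0), (9, 2), (5, 1), (53, 1), (54, 2), (52, 3), (44, 2), (37, 1), (9, 4), (45, 3), (7, 2), (8, 2), (49, 2), (28, 1), (53, 3), (9, 4)], [(46, 3), (31, 2), (13, 1), (0, 0), (49, 1), (23, 0), (9, 2), (5, 1), (53, 1), (54, 2), (9, 3), (45, 2), (7, 1), (48, 2), (40, 1), (15, 0), (52, 4), (44, 3), (9, 5), (45, 4), (8, 5), (9, 5), (36, 4), (30, 3), (5, 2), (52, 2), (53, 3), (54, 4), (9, 5), (8, 4), (9, 4)]⟩,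
    ⟨2, [2, 0], [0, 2, 4, 6, 7, 8], [(13, 0)], [], [(38, 3), (31, 2), (20, 1), (13, 0), (51, 5), (43, 4), (36, 3), (5, 2), (53, 2), (54, 3), (9, 4), (45, 3), (7, 2), (8, 2), (9, 2), (3, 1)], [(49, 3), (34, 2), (3, 1), (9, 2), (36, 1), (7, 2), (45, 2), (8, 3), (9, 3), (36, 2), (5, 1), (53, 1), (54, 2), (9, 3), (8, 2), (9, 2)]⟩,
    ⟨2, [3, 0], [0, 3, 4], [(16, 0)], [], [(46, 4), (38, 3), (20, 2), (16, 1), (13, 0), (50, 5), (42, 4), (35, 3), (24, 2), (53, 4), (54, 5), (9, 6), (43, 5), (36, 4), (5, 3), (53, 3), (54, 4), (51, 5), (43, 4), (36, 3), (54, 6), (8, 5), (9, 5), (9, 5), (34, 4), (23, 3), (19, 2), (3, 1), (53, 3), (9, 4), (7, 3)], [(49, 3), (34, 2), (3, 1), (9, 2), (35, 1), (36, 2), (53, 5), (45, 4), (7, 3), (54, 4), (8, 3), (9, 3)]⟩,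
    ⟨2, [5, 0], [0, 5, 6, 7], [(25, 0)], [], [(46, 4), (38, 3), (25, 2), (20, 1), (13, 0), (51, 5), (43, 4), (36, 3), (5, 2), (53, 2), (54, 3), (9, 4), (44, 3), (37, 2), (53, 5), (45, 4), (7, 3), (54, 4), (8, 3), (9, 3), (9, 4), (41, 3), (28, 2), (3, 1), (45, 2)], [(49, 3), (34, 2), (3, 1), (9, 2), (36, 1), (37, 2), (51, 5), (43, 4), (36, 3), (30, 2), (5, 1), (52, 1), (53, 2), (54, 3), (9, 4), (8, 3), (9, 3)]⟩,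
    ⟨2, [7, 0], [0, 7, 8], [(38, 0)], [], [(46, 1), (38, 0), (9, 2), (41, 1), (45, 2)], [(54, 3), (9, 4)]⟩,
    ⟨3, [2, 0], [0, 2, 6], [(23, 0)], [], [(42, 3), (29, 2), (24, 1), (52, 3), (54, 4), (51, 5), (43, 4), (30, 3), (5, 2), (52, 2), (54, 3), (9, 4), (8, 3)], [(41, 2), (23, 1), (19, 0), (54, 3), (51, 4), (43, 3), (5, 2), (54, 2), (9, 3), (44, 2), (54, 4), (8, 3), (9, 3)]⟩,
    ⟨3, [2, 2], [6], [(5, 0)], [], [(41, 3), (28, 2), (23, 1), (3, 0), (52, 1), (54, 2), (51, 3), (43, 2), (30, 1), (5, 0), (52, 0), (54, 1), (9, 2), (44, 1), (6, 0), (54, 0), (9, 1), (8, 0)], []⟩,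
    ⟨4, [0, 0], [7], [(14, 1), (1, 0), (34, 1), (19, 0), (50, 3), (35, 2), (4, 1), (53, 1), (9, 2), (7, 1), (49, 1), (3, 0)], [], [(47, 6), (32, 5), (26, 4), (21, 3), (17, 2), (14, 1), (1, 0), (34, 1), (19, 0), (50, 3), (35, 2), (4, 1), (53, 1), (9, 2), (7, 1), (50, 1), (9, 2), (52, 4), (37, 3), (53, 5), (7, 4), (9, 4), (49, 4), (28, 3), (23, 2), (19, 1), (3, 0), (52, 2), (9, 3), (29, 2), (24, 1), (4, 0), (51, 0), (9, 1), (30, 1), (5, 0), (52, 0), (52, 1), (6, 0), (9, 0)], []⟩,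
    ⟨4, [2, 0], [0, 2, 7], [(17, 0), (49, 2), (19, 1)], [], [(32, 3), (21, 2), (14, 1), (12, 0), (23, 3), (19, 2), (50, 5), (24, 4), (4, 3), (51, 3), (9, 4), (53, 4), (9, 5), (36, 4), (5, 3), (53, 3), (53, 4), (7, 3), (9, 3), (49, 4), (34, 3), (3, 2), (9, 3), (35, 2), (36, 3), (37, 4), (7, 5)], [(48, 6), (33, 5), (27, 4), (22, 3), (18, 2), (15, 1), (24, 3), (53, 5), (51, 6), (36, 5), (5, 4), (53, 4), (9, 5), (52, 5), (37, 4), (9, 6), (7, 5), (9, 5), (28, 4), (19, 3), (3, 2), (30, 3), (7, 5)]⟩]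
  adj := [
    [],
    [],
    [(10, 1)],
    [],
    [(0, 1), (1, 1), (2, 1), (4, 1)],
    [(0, 1), (4, 1)],
    [],
    [(0, 1), (2, 1), (4, 1)],
    [(2, 1), (11, 1)],
    [(4, 1)]]
  base := []
  dense := [
    [0, 0, 0, 0, 0, 0, 0, 0, 0, 0, 0, 0, 0, 0, 0, 0, 0, 0, 0, 0, 1, 0, 0, 0, 0, 0, 0, 0, 0, 0, 0, 0, 0, 0, 0, 0, 0, 0, 0, 0, 0, 0, 0, 0, 0, 0, 1],
    [0, 0, 0, 0, 0, 0, 0, 0, 0, 1, 0, 0, 0, 0, 0, 0, 0, 1, 0, 0, 0, 0, 0, 0, 0, 0, 0, 0, 0, 0, 0, 0, 1, 0, 0, 0, 0, 0, 0, 0, 0, 0, 0, 0, 0, 0, 0, 0, 0, 0, 0, 0, 0, 1],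
    [0, 0, 1, 1, 1, 1, 0, 0, 0, 0, 0, 0, 1, 0, 1, 1, 1, 0, 0, 1, 0, 0, 1, 1, 1, 0, 0, 0, 0, 0, 0, 1, 0, 0, 0, 1, 1, 0, 0, 0, 0, 0, 0, 0, 0, 0, 0, 0, 1, 0, 1, 1],
    [0, 0, 1, 1, 0, 0, 0, 0, 1, 1, 0, 1, 0, 1, 0, 1, 0, 0, 0, 0, 0, 1, 0, 0, 0, 0, 0, 0, 0, 0, 0, 0, 0, 0, 1, 0, 1, 0, 0, 0, 0, 1, 0, 1, 0, 1, 0, 1, 0, 0, 0, 1, 0, 1],
    [0, 0, 0, 0, 0, 0, 0, 0, 0, 1, 0, 0, 0, 0, 0, 0, 0, 0, 0, 0, 0, 0, 1, 0, 0, 0, 0, 0, 0, 0, 0, 0, 0, 1, 0, 0, 0, 0, 0, 0, 0, 0, 0, 0, 0, 0, 0, 0, 0, 0, 0, 0, 0, 1],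
    [0, 0, 0, 0, 0, 1, 0, 1, 1, 0, 0, 0, 0, 0, 0, 0, 0, 0, 0, 0, 1, 0, 1, 0, 0, 0, 0, 0, 0, 0, 0, 1, 0, 1, 0, 0, 1, 0, 0, 0, 1, 0, 0, 1, 0, 1, 0, 0, 0, 0, 0, 1],
    [0, 0, 0, 0, 0, 1, 0, 1, 1, 0, 0, 0, 0, 0, 0, 0, 0, 0, 0, 0, 1, 0, 1, 0, 0, 0, 0, 0, 0, 0, 0, 1, 0, 0, 0, 0, 1, 0, 1, 0, 0, 0, 0, 1, 0, 1, 0, 0, 1, 0, 0, 1],
    [0, 0, 0, 0, 1, 1, 0, 0, 0, 1, 0, 0, 0, 0, 0, 0, 0, 0, 1, 0, 0, 1, 1, 0, 1, 0, 0, 0, 0, 0, 0, 0, 1, 0, 0, 1, 0, 0, 0, 0, 0, 0, 0, 0, 0, 0, 0, 0, 0, 0, 1, 1, 0, 1],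
    [0, 0, 0, 0, 1, 1, 0, 1, 0, 1, 0, 0, 0, 0, 0, 0, 0, 1, 1, 0, 0, 1, 0, 0, 1, 0, 0, 0, 0, 0, 0, 0, 0, 1, 0, 0, 0, 0, 0, 0, 0, 0, 0, 0, 0, 0, 0, 0, 0, 0, 1, 0, 0, 1],
    [0, 0, 0, 0, 0, 1, 0, 1, 0, 0, 0, 0, 0, 0, 0, 1, 1, 0, 1, 1, 1, 1, 0, 0, 0, 0, 0, 0, 0, 0, 0, 0, 1, 0, 1, 1, 0, 0, 0, 1, 1, 1, 1, 0, 0, 0, 0, 0, 1, 0, 1],
    [0, 0, 0, 0, 0, 1, 0, 1, 1, 1, 0, 0, 0, 0, 0, 0, 0, 0, 0, 0, 0, 0, 0, 1, 0, 0, 0, 0, 0, 0, 0, 0, 0, 0, 1, 0, 1, 0, 0, 0, 0, 1, 0, 1, 0, 1, 0, 0, 0, 1, 0, 1, 0, 0, 1],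
    [0, 0, 0, 0, 0, 1, 0, 1, 1, 1, 0, 0, 0, 0, 0, 0, 0, 0, 0, 0, 1, 0, 0, 1, 0, 0, 0, 0, 0, 0, 0, 1, 0, 0, 0, 0, 1, 0, 1, 0, 0, 0, 0, 1, 0, 1, 1, 0, 0, 1, 0, 0, 0, 1, 1],
    [0, 0, 0, 0, 1, 0, 0, 1, 0, 0, 0, 0, 0, 0, 0, 0, 0, 0, 0, 1, 0, 0, 0, 0, 0, 0, 0, 0, 0, 0, 0, 0, 0, 0, 1, 1, 0, 0, 0, 0, 0, 0, 0, 0, 0, 0, 0, 0, 0, 1],
    [0, 0, 0, 0, 1, 0, 0, 1, 0, 1, 0, 0, 0, 0, 0, 0, 0, 1, 0, 1, 0, 0, 0, 0, 0, 0, 0, 0, 0, 0, 0, 0, 1, 0, 1, 1, 0, 0, 0, 0, 0, 0, 0, 0, 0, 0, 0, 1, 0, 0, 0, 0, 0, 1],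
    [0, 0, 0, 0, 0, 0, 0, 1, 0, 0, 0, 0, 0, 0, 0, 1, 1, 0, 1, 1, 0, 1, 1, 0, 0, 0, 0, 0, 0, 0, 0, 1, 1, 1, 0, 1, 1, 0, 0, 1, 1, 1, 1, 1, 0, 1, 1, 1, 0, 0, 1, 0, 0, 1, 1],
    [0, 0, 0, 0, 0, 1, 0, 0, 0, 1, 0, 0, 0, 0, 0, 0, 0, 0, 0, 0, 0, 0, 0, 1, 0, 0, 0, 0, 0, 0, 0, 0, 0, 0, 0, 0, 0, 0, 0, 0, 0, 0, 0, 0, 0, 0, 0, 0, 0, 0, 0, 1],
    [0, 0, 0, 0, 0, 1, 0, 0, 0, 0, 0, 0, 0, 0, 0, 0, 0, 0, 0, 0, 0, 0, 1, 1, 0, 0, 0, 0, 0, 0, 0, 0, 0, 0, 1, 0, 0, 0, 0, 0, 0, 0, 0, 0, 0, 0, 0, 0, 0, 0, 0, 1],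
    [0, 0, 0, 0, 0, 0, 0, 0, 0, 0, 0, 0, 0, 0, 0, 0, 0, 0, 0, 0, 1, 0, 1, 1, 0, 0, 0, 0, 0, 0, 0, 0, 0, 1, 1, 0, 0, 0, 0, 0, 1, 1, 0, 0, 0, 0, 0, 0, 1, 0, 0, 1, 0, 1, 1],
    [0, 0, 0, 0, 0, 0, 0, 0, 0, 0, 0, 0, 0, 0, 0, 0, 0, 0, 1, 1, 0, 1, 0, 1, 1, 0, 0, 0, 0, 0, 0, 0, 0, 1, 0, 0, 1, 0, 0, 0, 0, 0, 0, 0, 0, 0, 0, 0, 1, 0, 0, 1, 0, 1],
    [0, 0, 0, 0, 0, 0, 0, 0, 0, 0, 0, 0, 0, 0, 0, 0, 0, 0, 0, 0, 0, 0, 0, 0, 0, 0, 0, 0, 0, 0, 0, 0, 0, 0, 0, 0, 0, 0, 0, 0, 0, 0, 0, 0, 0, 0, 0, 0, 0, 0, 1],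
    [0, 0, 0, 0, 0, 1, 0, 0, 0, 1, 0, 0, 0, 0, 0, 0, 0, 0, 0, 0, 0, 0, 0, 0, 1, 0, 0, 0, 0, 0, 0, 0, 0, 0, 0, 0, 0, 0, 0, 0, 0, 0, 0, 0, 0, 0, 1, 0, 0, 0, 0, 1],
    [0, 0, 0, 0, 0, 0, 0, 0, 0, 1, 0, 0, 0, 0, 0, 0, 0, 0, 0, 0, 0, 0, 0, 0, 0, 0, 0, 0, 0, 0, 0, 0, 0, 0, 0, 0, 0, 0, 0, 0, 0, 0, 0, 0, 0, 0, 0, 1, 0, 0, 1],
    [0, 0, 0, 0, 0, 0, 0, 0, 0, 1, 0, 0, 0, 0, 0, 0, 0, 0, 0, 0, 0, 0, 0, 0, 0, 0, 0, 0, 0, 0, 0, 0, 0, 0, 0, 1, 0, 0, 0, 0, 0, 0, 0, 0, 0, 0, 0, 1],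
    [0, 0, 0, 0, 0, 0, 0, 1, 0, 0, 0, 0, 0, 0, 0, 0, 0, 0, 1, 1, 0, 1, 1, 1, 0, 0, 0, 0, 0, 0, 0, 0, 0, 1, 0, 0, 1, 0, 0, 0, 0, 0, 0, 0, 0, 0, 1, 0, 0, 0, 0, 1],
    [0, 0, 0, 0, 0, 0, 0, 1, 0, 0, 0, 0, 0, 0, 0, 0, 0, 0, 0, 0, 0, 0, 0, 0, 0, 0, 0, 0, 0, 0, 0, 0, 0, 0, 0, 1, 0, 0, 0, 0, 0, 0, 0, 0, 0, 0, 0, 0, 1],
    [0, 0, 0, 0, 0, 0, 0, 1, 0, 1, 0, 0, 0, 0, 0, 0, 0, 0, 0, 0, 0, 0, 0, 0, 1, 0, 0, 0, 0, 0, 0, 0, 0, 1, 0, 1, 0, 0, 0, 0, 0, 0, 0, 0, 0, 0, 0, 0, 0, 0, 0, 0, 0, 1],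
    [0, 0, 0, 0, 0, 0, 0, 0, 0, 0, 0, 0, 0, 0, 0, 0, 0, 0, 0, 0, 0, 0, 1, 0, 1, 0, 0, 0, 0, 0, 0, 1, 0, 0, 0, 1, 1, 0, 0, 0, 0, 0, 1, 1, 0, 1, 0, 0, 0, 0, 0, 0, 0, 1],
    [0, 0, 0, 0, 0, 0, 0, 0, 0, 1, 0, 0, 0, 0, 0, 0, 0, 0, 0, 0, 0, 0, 0, 0, 1, 0, 0, 0, 0, 0, 0, 0, 1, 0, 0, 1, 1, 0, 0, 0, 0, 0, 0, 0, 0, 0, 0, 0, 1, 0, 1, 1],
    [0, 0, 0, 0, 0, 0, 0, 0, 0, 0, 0, 0, 0, 0, 0, 0, 0, 0, 0, 0, 0, 0, 0, 0, 0, 0, 0, 0, 0, 0, 0, 0, 0, 0, 0, 0, 0, 0, 0, 0, 0, 0, 0, 0, 0, 0, 0, 0, 0, 1],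
    [0, 0, 0, 0, 0, 0, 0, 0, 0, 0, 0, 0, 0, 0, 0, 0, 0, 0, 0, 0, 0, 0, 0, 1, 1, 0, 0, 0, 0, 0, 0, 0, 0, 0, 0, 1, 1, 0, 0, 0, 0, 0, 1, 1, 0, 0, 0, 0, 0, 0, 1, 1],
    [0, 0, 0, 0, 0, 0, 0, 0, 0, 0, 0, 0, 0, 0, 0, 0, 0, 0, 0, 0, 0, 0, 0, 0, 1, 0, 0, 0, 0, 0, 0, 0, 0, 0, 1, 0, 1, 0, 0, 0, 0, 0, 0, 0, 0, 0, 0, 0, 0, 0, 0, 1, 0, 1],
    [0, 0, 0, 0, 0, 0, 0, 0, 0, 0, 0, 0, 0, 0, 0, 0, 0, 0, 0, 0, 0, 0, 0, 0, 0, 0, 0, 0, 0, 0, 0, 0, 0, 0, 0, 0, 0, 0, 0, 0, 0, 0, 0, 0, 0, 0, 0, 0, 0, 0, 0, 1],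
    [0, 0, 0, 0, 0, 0, 0, 0, 0, 0, 0, 0, 0, 0, 0, 0, 0, 0, 0, 0, 0, 0, 0, 0, 0, 0, 0, 0, 0, 0, 0, 0, 0, 0, 0, 0, 0, 0, 0, 0, 0, 0, 0, 0, 0, 0, 0, 0, 0, 0, 0, 0, 1],
    [0, 0, 0, 0, 0, 0, 0, 1, 1, 1, 0, 0, 0, 0, 0, 0, 0, 0, 0, 0, 0, 0, 0, 0, 0, 0, 0, 0, 0, 0, 0, 0, 0, 0, 0, 0, 0, 1, 0, 0, 0, 0, 0, 0, 1, 1, 1, 0, 0, 0, 0, 0, 0, 1, 1],
    [0, 0, 0, 0, 0, 0, 0, 1, 1, 1, 0, 0, 0, 0, 0, 0, 0, 0, 0, 0, 0, 0, 0, 0, 0, 0, 0, 0, 0, 0, 1, 1, 0, 0, 0, 0, 0, 0, 1, 0, 0, 0, 0, 0, 0, 1, 0, 0, 0, 0, 0, 0, 1],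
    [0, 0, 0, 0, 0, 0, 0, 0, 0, 0, 0, 0, 0, 0, 0, 0, 0, 0, 0, 0, 0, 0, 0, 0, 0, 0, 0, 0, 0, 1, 0, 0, 0, 0, 0, 0, 0, 1],
    [0, 0, 0, 0, 0, 0, 0, 0, 0, 0, 0, 0, 0, 0, 0, 0, 0, 0, 0, 0, 0, 0, 0, 0, 0, 0, 0, 1, 1, 0, 0, 0, 1, 1, 1, 0, 0, 0, 0, 1, 1, 1, 0, 0, 0, 0, 0, 0, 1, 1, 0, 0, 0, 1],
    [0, 0, 0, 0, 0, 0, 0, 0, 0, 1, 0, 0, 0, 0, 0, 0, 0, 0, 0, 0, 0, 0, 0, 0, 0, 0, 0, 0, 0, 0, 1, 0, 0, 0, 0, 0, 0, 1, 0, 0, 0, 0, 0, 0, 0, 0, 0, 0, 1],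
    [0, 0, 0, 0, 0, 0, 0, 1, 0, 0, 0, 0, 0, 0, 0, 0, 0, 0, 0, 0, 0, 0, 0, 0, 0, 0, 0, 0, 0, 0, 0, 0, 1, 0, 1, 0, 1, 1, 0, 0, 0, 0, 0, 0, 0, 0, 0, 0, 0, 1, 0, 0, 0, 1, 0, 0, 0, 0, 1],
    [0, 0, 0, 0, 0, 0, 0, 1, 0, 1, 0, 0, 1, 0, 1, 1, 0, 0, 1, 1, 0, 0, 1, 0, 0, 0, 0, 1, 1, 0, 0, 0, 1, 1, 0, 1, 1, 0, 0, 1, 0, 1, 0, 1, 1, 1, 0, 0, 1, 0, 0, 0, 1, 1, 1, 0, 0, 0, 1],
    [0, 1, 1, 0, 1, 0, 1, 0, 1, 1, 0, 0, 1, 0, 0, 0, 0, 1, 0, 0, 0, 0, 1, 0, 1, 0, 1, 1, 0, 1, 0, 0, 0, 1, 0, 1, 0, 0, 0, 0, 0, 0, 1, 1, 0, 0, 0, 0, 0, 0, 1, 0, 1],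
    [0, 0, 0, 0, 0, 0, 0, 0, 0, 0, 0, 0, 0, 0, 0, 0, 0, 1, 1, 0, 0, 1, 1, 0, 1, 0, 0, 0, 0, 1, 1, 0, 0, 1, 0, 1, 0, 0, 0, 1, 1, 0, 1, 0, 1, 0, 0, 0, 0, 0, 1, 0, 1],
    [1, 0, 1, 0, 1, 0, 1, 0, 0, 0, 0, 1, 0, 0, 0, 0, 1, 0, 1, 0, 0, 0, 0, 0, 1, 1, 0, 1, 0, 1, 0, 0, 0, 0, 0, 0, 1, 1, 1, 0, 1, 0, 0, 1, 0, 1, 0, 0, 1, 0, 1, 0, 0, 1, 1],
    [0, 0, 0, 0, 0, 1, 0, 1, 1, 0, 0, 0, 0, 1, 0, 1, 0, 0, 0, 1, 0, 0, 1, 0, 0, 1, 0, 1, 1, 1, 0, 1, 0, 1, 0, 1, 0, 0, 1, 0, 1, 1, 1, 0, 1, 0, 1, 0, 1, 1, 1, 0, 1, 0, 1],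
    [0, 0, 0, 0, 0, 0, 0, 0, 0, 0, 0, 0, 0, 0, 0, 0, 0, 0, 0, 0, 1, 0, 1, 0, 1, 0, 0, 0, 0, 0, 1, 0, 0, 0, 0, 0, 0, 0, 1, 0, 1, 0, 1, 1, 1, 0, 1, 0, 0, 0, 1, 1],
    [0, 0, 0, 1, 0, 1, 0, 1, 0, 0, 0, 0, 0, 1, 0, 0, 0, 0, 0, 0, 0, 0, 0, 1, 0, 0, 0, 0, 0, 0, 0, 1, 0, 0, 0, 0, 0, 0, 0, 0, 0, 1, 0, 0, 0, 0, 1, 0, 0, 0, 0, 0, 0, 0, 1, 0, 0, 0, 0, 0, 0, 0, 0, 0, 0, 0, 0, 0, 0, 0, 0, 0, 0, 0, 0, 0, 0, 0, 0, 1, 0, 0, 0, 1],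
    [0, 0, 0, 0, 0, 1, 0, 0, 1, 1, 0, 0, 0, 1, 0, 1, 0, 0, 0, 0, 0, 0, 1, 1, 0, 1, 0, 0, 1, 0, 1, 1, 0, 0, 0, 0, 1, 1, 0, 0, 1, 0, 0, 0, 0, 1, 1, 0, 0, 0, 0, 0, 1, 0, 1, 0, 0, 0, 0, 0, 0, 0, 0, 0, 0, 0, 0, 0, 0, 0, 0, 0, 0, 0, 0, 0, 0, 0, 0, 1, 0, 1, 1],
    [0, 0, 0, 0, 0, 0, 0, 0, 1, 0, 0, 0, 0, 0, 0, 0, 0, 0, 0, 0, 1, 0, 0, 0, 0, 0, 0, 0, 0, 0, 0, 1, 0, 0, 1, 0, 1, 0, 1, 0, 0, 0, 0, 1, 0, 0, 0, 0, 0, 1, 0, 1, 0, 0, 0, 0, 0, 0, 0, 0, 0, 0, 0, 0, 0, 0, 0, 0, 0, 0, 0, 0, 0, 0, 0, 0, 0, 0, 0, 1, 0, 1, 1, 1],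
    [0, 0, 0, 0, 0, 1, 0, 0, 0, 0, 0, 0, 0, 1, 0, 0, 0, 0, 0, 1, 1, 0, 0, 1, 1, 0, 0, 0, 0, 0, 0, 0, 0, 0, 0, 0, 1, 0, 1, 0, 0, 0, 1, 0, 0, 1, 1, 0, 0, 1, 1, 1, 0, 0, 0, 0, 0, 0, 0, 0, 0, 0, 0, 0, 0, 0, 0, 0, 0, 0, 0, 0, 0, 0, 0, 0, 0, 0, 0, 1],
    [0, 0, 0, 0, 0, 0, 0, 1, 0, 0, 0, 0, 0, 1, 0, 0, 0, 0, 0, 0, 1, 0, 0, 0, 0, 0, 0, 0, 1, 0, 1, 0, 0, 0, 1, 0, 1, 0, 1, 0, 0, 1, 0, 0, 1, 0, 1, 0, 0, 1, 0, 0, 1, 1, 1, 0, 0, 0, 0, 0, 0, 0, 0, 0, 0, 0, 0, 0, 0, 0, 0, 0, 0, 0, 0, 0, 0, 0, 0, 0, 0, 1, 1],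
    [0, 0, 0, 0, 0, 0, 0, 0, 0, 0, 0, 0, 0, 0, 0, 0, 0, 0, 0, 0, 0, 0, 0, 0, 0, 0, 0, 0, 0, 0, 0, 0, 0, 0, 0, 0, 0, 0, 0, 0, 0, 1, 0, 0, 0, 1, 1, 0, 0, 0, 0, 0, 0, 0, 1, 0, 0, 0, 0, 0, 0, 0, 0, 0, 0, 0, 0, 0, 0, 0, 0, 0, 0, 0, 0, 0, 0, 0, 0, 0, 0, 0, 0, 1],
    [0, 0, 0, 0, 0, 0, 0, 0, 0, 1, 0, 0, 0, 0, 0, 0, 0, 0, 0, 1, 0, 0, 0, 0, 1, 0, 0, 0, 0, 1, 1, 0, 0, 0, 0, 0, 0, 0, 0, 0, 0, 1, 1, 0, 1, 0, 0, 0, 0, 0, 0, 0, 0, 0, 1, 0, 0, 0, 0, 0, 0, 0, 0, 0, 0, 0, 0, 0, 0, 0, 0, 0, 0, 0, 0, 0, 0, 0, 0, 0, 0, 0, 0, 0, 0, 0, 0, 0, 0, 0, 0, 1],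
    [0, 0, 0, 1, 0, 0, 1, 0, 1, 0, 0, 0, 0, 0, 0, 0, 0, 0, 0, 0, 0, 0, 0, 1, 0, 0, 0, 0, 1, 0, 1, 0, 0, 0, 0, 0, 0, 0, 0, 0, 0, 1, 0, 1, 1, 0, 0, 0, 0, 0, 0, 1, 0, 0, 1, 0, 0, 0, 0, 0, 0, 0, 0, 0, 0, 0, 0, 0, 0, 0, 0, 0, 0, 0, 0, 0, 0, 0, 0, 0, 0, 0, 0, 0, 0, 0, 0, 0, 0, 0, 0, 1],
    [0, 0, 0, 0, 1, 1, 1, 1, 0, 1, 0, 0, 0, 0, 0, 0, 0, 1, 0, 1, 0, 1, 0, 1, 1, 0, 1, 0, 1, 1, 1, 0, 1, 0, 0, 0, 0, 1, 0, 0, 0, 0, 0, 0, 0, 0, 0, 1, 0, 0, 1, 1, 0, 1, 0, 0, 0, 0, 0, 0, 0, 0, 0, 0, 0, 0, 0, 0, 0, 0, 0, 0, 0, 0, 0, 0, 0, 0, 0, 0, 0, 0, 0, 0, 0, 0, 0, 0, 0, 0, 0, 0, 0, 0, 0, 0, 0, 0, 0, 0, 0, 0, 1],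
    [0, 0, 0, 0, 1, 0, 0, 0, 0, 1, 0, 0, 1, 0, 1, 1, 0, 1, 1, 1, 0, 1, 1, 1, 0, 0, 0, 1, 1, 0, 1, 0, 1, 1, 1, 1, 1, 0, 0, 0, 0, 0, 0, 0, 0, 0, 0, 0, 1, 0, 1, 0, 1, 1, 0, 0, 0, 0, 0, 0, 0, 0, 0, 0, 0, 0, 0, 0, 0, 0, 0, 0, 0, 0, 0, 0, 0, 0, 0, 0, 0, 0, 0, 0, 0, 0, 0, 0, 0, 0, 0, 0, 0, 0, 0, 0, 0, 0, 0, 0, 0, 0, 1]]
  tgt := [
    ([], []),
    ([], []),
    ([], []),
    ([], [(1, 1), (4, 1), (5, 1), (8, 1), (11, 1), (13, 1), (15, 1), (16, 1), (17, 1), (18, 1), (19, 1), (21, 1), (23, 1), (24, 1), (25, 1), (27, 1), (30, 1), (32, 1), (33, 1), (34, 1), (36, 1), (41, 1), (43, 1), (45, 1), (46, 1), (49, 1), (50, 1)]),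
    ([], []),
    ([], [(0, 1), (6, 1), (13, 1), (15, 1), (16, 1), (17, 1), (20, 1), (22, 1), (23, 1), (24, 1), (25, 1), (30, 1), (31, 1), (32, 1), (34, 1), (36, 1), (37, 1), (41, 1), (43, 1), (44, 1), (46, 1), (48, 1), (49, 1)]),
    ([], [(4, 1), (5, 1), (12, 1), (18, 1), (21, 1), (22, 1), (23, 1), (28, 1), (30, 1), (31, 1), (34, 1), (35, 1), (37, 1), (44, 1), (45, 1), (47, 1), (49, 1), (51, 1), (52, 1)]),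
    ([], [(1, 1), (4, 1), (7, 1), (8, 1), (19, 1), (21, 1), (22, 1), (31, 1)]),
    ([], [(1, 1), (6, 1), (10, 1), (11, 1), (12, 1), (15, 1), (20, 1), (21, 1), (22, 1), (23, 1), (24, 1), (26, 1), (28, 1), (32, 1), (33, 1), (34, 1), (36, 1), (41, 1), (43, 1), (46, 1), (48, 1), (49, 1)]),
    ([], [(1, 1), (12, 1), (13, 1), (19, 1), (21, 1), (28, 1)]),
    ([], []),
    ([], []),
    ([], [(4, 1), (5, 1), (8, 1), (9, 1), (10, 1), (14, 1), (17, 1), (19, 1), (20, 1), (23, 1), (26, 1), (27, 1), (28, 1), (29, 1), (31, 1), (34, 1), (36, 1), (38, 1), (39, 1), (40, 1), (44, 1), (53, 1), (54, 1)]),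
    ([], [(0, 1), (1, 1), (2, 1), (3, 1), (7, 1), (8, 1), (9, 1), (10, 1), (11, 1), (12, 1), (13, 1), (17, 1), (18, 1), (21, 1), (22, 1), (24, 1), (26, 1), (27, 1), (28, 1), (29, 1), (32, 1), (34, 1), (35, 1), (36, 1), (38, 1), (39, 1), (41, 1)]),
    ([], [(2, 1), (5, 1), (6, 1), (7, 1), (8, 1), (10, 1), (11, 1), (12, 1), (14, 1), (17, 1), (19, 1), (20, 1), (21, 1), (22, 1), (23, 1), (25, 1), (26, 1), (29, 1), (31, 1), (32, 1), (34, 1), (35, 1), (38, 1), (39, 1), (40, 1), (43, 1), (44, 1), (45, 1), (46, 1), (49, 1), (50, 1), (53, 1), (54, 1)]),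
    ([], [(0, 1), (1, 1), (3, 1), (6, 1), (9, 1), (10, 1), (11, 1), (16, 1), (19, 1), (22, 1), (23, 1), (24, 1), (25, 1), (26, 1), (28, 1), (29, 1), (31, 1), (37, 1), (41, 1), (42, 1), (43, 1), (51, 1), (52, 1)]),
    ([], [(1, 1), (3, 1), (4, 1), (6, 1), (7, 1), (11, 1), (12, 1), (15, 1), (17, 1), (18, 1), (19, 1), (22, 1), (25, 1), (26, 1), (27, 1), (28, 1), (29, 1), (30, 1), (32, 1), (33, 1), (35, 1), (36, 1), (41, 1), (42, 1), (44, 1), (46, 1), (48, 1), (49, 1), (51, 1), (52, 1)]),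
    ([], [(0, 1), (1, 1), (4, 1), (6, 1), (8, 1), (16, 1), (17, 1), (21, 1), (22, 1), (24, 1), (31, 1), (32, 1), (34, 1), (36, 1), (37, 1), (41, 1), (43, 1), (44, 1), (46, 1), (48, 1), (49, 1)]),
    ([], [(2, 1), (3, 1), (5, 1), (8, 1), (10, 1), (19, 1), (21, 1), (23, 1), (25, 1), (28, 1), (33, 1), (35, 1), (37, 1), (38, 1), (39, 1), (41, 1), (42, 1), (45, 1), (46, 1), (49, 1), (50, 1), (51, 1), (52, 1)]),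
    ([], [(0, 1), (4, 1), (6, 1), (8, 1), (12, 1), (16, 1), (17, 1), (27, 1), (28, 1), (30, 1), (31, 1), (32, 1), (34, 1), (36, 1), (37, 1), (41, 1), (43, 1), (44, 1), (46, 1), (48, 1), (49, 1)]),
    ([], [(0, 1), (8, 1), (13, 1), (16, 1), (22, 1), (23, 1), (24, 1), (27, 1), (31, 1)]),
    ([], [(1, 1), (2, 1), (3, 1), (4, 1), (5, 1), (8, 1), (10, 1), (13, 1), (15, 1), (19, 1), (20, 1), (21, 1), (22, 1), (25, 1), (28, 1), (30, 1), (33, 1), (35, 1), (37, 1), (38, 1), (39, 1), (41, 1), (42, 1), (45, 1), (46, 1), (49, 1), (50, 1), (51, 1), (52, 1)]),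
    ([], [(0, 1), (6, 1), (7, 1), (12, 1), (13, 1), (15, 1), (17, 1), (19, 1), (21, 1), (27, 1), (28, 1), (30, 1), (32, 1), (34, 1), (36, 1), (37, 1), (41, 1), (43, 1), (44, 1), (46, 1), (48, 1), (49, 1)]),
    ([], [(0, 1), (1, 1), (6, 1), (12, 1), (16, 1), (17, 1), (19, 1), (20, 1), (21, 1), (22, 1), (23, 1), (24, 1), (25, 1), (28, 1), (30, 1), (32, 1), (34, 1), (36, 1), (37, 1), (41, 1), (43, 1), (44, 1), (46, 1), (48, 1), (49, 1)]),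
    ([], [(0, 1), (1, 1), (6, 1), (8, 1), (12, 1), (13, 1), (15, 1), (17, 1), (19, 1), (21, 1), (25, 1), (27, 1), (28, 1), (30, 1), (31, 1), (32, 1), (34, 1), (36, 1), (37, 1), (41, 1), (43, 1), (44, 1), (46, 1), (48, 1), (49, 1)]),
    ([], [(1, 1), (2, 1), (9, 1), (11, 1), (13, 1), (14, 1), (18, 1), (19, 1), (21, 1), (22, 1), (23, 1), (24, 1), (27, 1), (29, 1), (30, 1), (32, 1), (33, 1), (34, 1), (35, 1), (36, 1), (37, 1), (38, 1), (39, 1), (42, 1), (43, 1), (46, 1), (48, 1), (49, 1), (51, 1), (52, 1)]),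
    ([], [(0, 1), (4, 1), (6, 1), (7, 1), (8, 1), (15, 1), (16, 1), (17, 1), (18, 1), (19, 1), (21, 1), (24, 1), (25, 1), (27, 1), (29, 1), (31, 1), (32, 1), (35, 1), (37, 1), (38, 1), (39, 1), (41, 1), (45, 1), (48, 1), (50, 1), (51, 1), (52, 1), (53, 1), (54, 1)]),
    ([], [(0, 1), (1, 1), (13, 1), (16, 1), (20, 1), (21, 1), (25, 1), (26, 1), (30, 1), (33, 1), (35, 1), (37, 1), (43, 1), (46, 1), (47, 1), (50, 1)]),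
    ([], [(0, 1), (8, 1), (9, 1), (10, 1), (11, 1), (12, 1), (14, 1), (16, 1), (18, 1), (20, 1), (22, 1), (23, 1), (25, 1), (27, 1), (31, 1), (34, 1), (36, 1), (37, 1), (41, 1), (43, 1), (46, 1), (47, 1), (50, 1)]),
    ([], [(4, 1), (9, 1), (11, 1), (14, 1), (15, 1), (16, 1), (21, 1), (26, 1), (28, 1), (29, 1), (31, 1), (32, 1), (34, 1), (35, 1), (37, 1)]),
    ([], [(7, 1), (8, 1), (9, 1), (11, 1), (12, 1), (13, 1), (14, 1), (15, 1), (16, 1), (19, 1), (24, 1), (26, 1), (29, 1), (32, 1), (34, 1)]),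
    ([], [(1, 1), (4, 1), (5, 1), (8, 1), (10, 1), (12, 1), (16, 1), (17, 1), (18, 1), (24, 1), (25, 1), (27, 1)]),
    ([], [(0, 1), (4, 1), (6, 1), (7, 1), (8, 1), (12, 1), (17, 1), (18, 1), (21, 1), (22, 1), (24, 1), (25, 1), (27, 1), (28, 1), (31, 1), (32, 1), (34, 1), (36, 1), (37, 1), (41, 1), (43, 1), (44, 1), (46, 1), (48, 1), (49, 1)]),
    ([], [(0, 1), (4, 1), (6, 1), (13, 1), (15, 1), (16, 1), (17, 1), (18, 1), (19, 1), (21, 1), (25, 1), (30, 1), (32, 1), (34, 1), (36, 1), (37, 1), (41, 1), (43, 1), (44, 1), (46, 1), (48, 1), (49, 1)]),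
    ([], [(0, 1), (1, 1), (6, 1), (7, 1), (16, 1), (17, 1), (27, 1), (30, 1), (32, 1), (34, 1), (36, 1), (37, 1), (41, 1), (43, 1), (44, 1), (46, 1), (48, 1), (49, 1)]),
    ([], [(19, 1), (21, 1), (22, 1)]),
    ([], [(1, 1), (8, 1), (12, 1), (15, 1), (18, 1), (27, 1), (28, 1), (30, 1)]),
    ([], [(4, 1), (9, 1), (11, 1), (14, 1), (15, 1), (16, 1), (21, 1), (26, 1), (28, 1), (29, 1), (31, 1), (32, 1), (34, 1), (37, 1)]),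
    ([], [(1, 1), (4, 1), (6, 1), (9, 1), (10, 1), (12, 1), (14, 1), (15, 1), (16, 1), (18, 1), (19, 1), (22, 1), (24, 1), (26, 1), (32, 1), (33, 1), (34, 1), (36, 1), (41, 1), (43, 1), (46, 1), (48, 1), (49, 1)]),
    ([], [(7, 1), (8, 1), (9, 1), (10, 1), (12, 1), (13, 1), (14, 1), (16, 1), (18, 1), (23, 1), (26, 1), (27, 1), (30, 1), (31, 1), (32, 1), (33, 1), (35, 1), (36, 1), (37, 1), (43, 1), (44, 1), (46, 1), (48, 1), (49, 1)]),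
    ([], [(0, 1), (4, 1), (5, 1), (6, 1), (7, 1), (8, 1), (9, 1), (10, 1), (12, 1), (13, 1), (14, 1), (17, 1), (21, 1), (22, 1), (25, 1), (26, 1), (30, 1), (31, 1), (33, 1), (37, 1), (44, 1)]),
    ([], [(5, 1), (8, 1), (9, 1), (10, 1), (11, 1), (13, 1), (14, 1), (15, 1), (18, 1), (21, 1), (22, 1), (26, 1), (27, 1), (30, 1), (31, 1), (33, 1), (37, 1), (44, 1)]),
    ([], [(0, 1), (4, 1), (6, 1), (7, 1), (9, 1), (11, 1), (12, 1), (14, 1), (19, 1), (21, 1), (23, 1), (24, 1), (25, 1), (26, 1), (27, 1)]),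
    ([], [(0, 1), (1, 1), (4, 1), (6, 1), (7, 1), (9, 1), (11, 1), (13, 1), (14, 1), (16, 1), (18, 1), (19, 1), (20, 1), (25, 1), (26, 1), (27, 1), (28, 1), (29, 1), (30, 1)]),
    ([], [(1, 1), (5, 1), (7, 1), (8, 1), (9, 1), (11, 1), (13, 1), (14, 1), (16, 1), (17, 1), (19, 1), (20, 1), (23, 1), (24, 1), (26, 1), (28, 1), (31, 1), (36, 1), (37, 1), (41, 1), (43, 1), (46, 1), (48, 1), (49, 1)]),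
    ([], [(1, 1), (4, 1), (5, 1), (8, 1), (10, 1), (12, 1), (15, 1), (16, 1), (17, 1), (20, 1), (21, 1), (22, 1), (23, 1), (25, 1), (26, 1), (27, 1), (29, 1), (31, 1)]),
    ([], [(8, 1), (13, 1), (16, 1), (22, 1), (23, 1), (24, 1), (27, 1), (31, 1)]),
    ([], [(1, 1), (12, 1), (13, 1), (28, 1)]),
    ([], [(1, 1), (4, 1), (7, 1), (8, 1), (24, 1), (31, 1)]),
    ([], [(28, 1)]),
    ([], [(19, 1)]),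
    ([], [(31, 1)]),
    ([], [(32, 1)]),
    ([], [(1, 1), (7, 1), (13, 1), (16, 1), (18, 1), (19, 1), (21, 1), (25, 1), (27, 1)]),
    ([], [(4, 1), (6, 1), (7, 1), (11, 1), (12, 1), (15, 1), (16, 1), (18, 1), (20, 1), (24, 1), (27, 1), (31, 1)])]

/-- Orbits inside the subgroup. -/
def orbits : List (ℕ × List (ℕ × List ℕ)) := [
    (0, [(0, []), (1, [3, 4]), (2, [2, 7]), (5, [2]), (6, [2, 4, 6, 7]), (7, [3, 9]), (8, [4, 5, 8]), (13, [1]), (16, [2, 5]), (17, [3, 4, 9]), (20, [5]), (21, [6, 7, 9]), (25, [3, 4, 7, 8]), (26, [0, 3, 4, 5]), (27, [2, 6]), (32, [2, 8]), (35, [1, 3]), (38, [3, 5, 9]), (39, [5, 6, 8]), (40, [4, 5, 6, 8]), (42, [1, 2]), (44, [3, 5, 7]), (51, [3, 7]), (52, [2, 7, 8]), (53, [2, 3, 6, 8]), (55, [5, 9]), (56, [4, 6]), (59, [1, 4, 7]), (61, [6, 7]),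 (62, [4, 7, 9]), (66, [0, 5, 6]), (68, [4, 6, 7]), (71, [4, 7]), (72, [4, 5]), (73, [3, 4, 6]), (74, [1, 5, 9]), (76, [1, 2, 7]), (79, [4, 8, 9]), (80, [0, 3, 9]), (81, [1, 6, 9]), (82, [7]), (83, [3, 5, 6, 7]), (85, [5, 7, 8]), (86, [3, 4, 5, 8]), (87, [2, 5, 8]), (88, [2, 6, 8]), (89, [3, 5, 8, 9]), (91, [7, 9]), (92, [8]), (93, [1, 6]), (94, [7, 8]), (98, [2, 3, 5]), (100, [4, 7, 8]), (101, [1, 4, 7, 9]), (107, [4, 5, 7]), (108, [3, 4, 8, 9]), (110, [1, 2, 5]), (111, [0, 3, 8]), (114, [4]), (117, [1, 5]), (120, [2, 5, 6]), (121, [5, 8]), (122, [0, 1]), (123, [5, 7, 8, 9]), (126, [0, 5, 6, 8]), (128, [3, 6, 7]), (129, [4, 6, 9]), (132, [5, 7]), (133, [7, 8, 9]), (135, [4, 9]), (136, [0, 1, 2]), (138, [0]), (139, [8, 9]), (142, [3, 5]), (146, [4, 7, 8, 9]), (148, [2, 9]),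 (149, [0, 8]), (151, [6]), (153, [3, 4, 5]), (155, [2, 6, 7]), (159, [1, 3, 5]), (160, [0, 2, 7]), (162, [6, 7, 8]), (163, [5, 6]), (164, [1, 5, 7]), (166, [3, 7, 9]), (168, [0, 5, 7]), (170, [6, 8, 9]), (171, [1, 9]), (172, [6, 8]), (173, [3]), (174, [2, 8, 9]), (176, [1, 4]), (178, [3, 8, 9]), (180, [3, 8]), (185, [4, 8]), (186, [2, 5, 6, 9]), (188, [2, 3, 5, 8]), (192, [3, 5, 8]), (195, [1, 3, 7]), (203, [0, 3]), (206, [3, 4, 6, 9]), (208, [2, 6, 9]), (211, [5, 8, 9]), (213, [0, 2, 6]), (215, [1, 4, 9]), (217, [2, 3, 6]), (219, [2, 4, 6]), (220, [3, 5, 6]), (221, [0, 4, 7]), (222, [1, 3, 9]), (230, [1, 8]), (231, [5, 6, 9]), (242, [9]), (243, [6, 9]), (246, [1, 3, 5, 9]), (252, [0, 4, 9]), (253, [3, 4, 7]), (254, [0, 4]), (255, [0, 2, 8]), (256, [0, 2]), (257, [4, 5,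 9]), (261, [4, 5, 8, 9]), (264, [0, 4, 8]), (267, [3, 4, 8]), (269, [3, 6]), (270, [4, 5, 6]), (275, [1, 7])]),
    (75, [(34, [1, 3, 4, 6, 8, 9]), (75, []), (95, [0, 1, 5]), (194, [0, 2, 4, 6, 8])]),
    (183, [(157, [2, 3, 4]), (183, [])])]

theorem ident_ok : identPerm 9 CfsgLib.Spor.CoThreePerm.eltRows 1387 CfsgLib.Spor.CoThreePerm.basePts cert sw gw = true := by decide +kernel

theorem sub_ok : subPermOK 276 9 CfsgLib.Spor.CoThreePerm.eltRows sw [] orbits = true := by decide +kernel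

theorem shape_ok : cert.shapeOK = true := by decide +kernel

theorem lin_ok : cert.linOK = true := by decide +kernel

theorem prod_ok : cert.p ^ cert.m ≤ (orbits.map fun e => e.2.length).prod := by decide +kernel

end CfsgLib.Spor.CoThreeMult.P2
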